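import Cfsg.Agent.Lib.Unitary.ElusA
import Cfsg.Agent.Lib.GLC.Diag

/-!
# Elements of prime order of `PSU`
-/

set_option autoImplicit false

namespace Cfsg.Lib.Unitary

open Module Matrix Polynomial Cfsg.Lib.GLC
open Cfsg.Lib.Symp (RF)

theorem exists_kummer_cyclic {C : Type*} [CommGroup C] [Finite C] [IsCyclic C] {r n : ℕ}
    [hr : Fact r.Prime] (h : r ∣ Nat.card C) (hn : n ≠ 0) :
    (∃ (c : C) (k : ℕ), k * r = n ∧ (∀ b, b ^ r ≠ c) ∧ c ^ k = 1) ↔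
      padicValNat r (Nat.card C) < padicValNat r n := by
  have hq := (Nat.card_pos (α := C)).ne'
  refine ⟨fun ⟨u, k, h1, h7, h8⟩ => ?_, fun h1 => ?_⟩
  · have hk : k ≠ 0 := by rintro rfl; omega
    have h9 : ¬ orderOf u * r ∣ Nat.card C := fun h9 => by
      obtain ⟨b, hb⟩ := (exists_pow_eq_iff u r).2 (by rwa [Nat.gcd_eq_left h])
      exact h7 b hb
    obtain ⟨t, ht⟩ := orderOf_dvd_natCard u
    have h11 : ¬ r ∣ t := fun h => h9 (ht ▸ Nat.mul_dvd_mul_left _ h)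
    rw [ht, ← h1, padicValNat.mul hk hr.out.ne_zero, padicValNat.mul (orderOf_pos u).ne'
      (by rintro rfl; simp at h11), padicValNat.eq_zero_of_not_dvd h11, padicValNat_self]
    exact Nat.lt_succ_of_le ((padicValNat_dvd_iff_le hk).1 (pow_padicValNat_dvd.trans
      (orderOf_dvd_of_pow_eq_one h8)))
  · obtain ⟨g, hg⟩ := IsCyclic.exists_ofOrder_eq_natCard (α := C)
    obtain ⟨u, hu⟩ := exists_orderOf_of_dvd (g := g) (s := r ^ padicValNat r (Nat.card C))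
      (by rw [hg]; exact pow_padicValNat_dvd)
    obtain ⟨k, rfl⟩ : r ∣ n := dvd_of_one_le_padicValNat (by omega)
    have hk : k ≠ 0 := by rintro rfl; omega
    rw [padicValNat.mul hr.out.ne_zero hk, padicValNat_self] at h1
    refine ⟨u, k, mul_comm _ _, fun b hb => ?_, orderOf_dvd_iff_pow_eq_one.1
      (by rw [hu]; exact (padicValNat_dvd_iff_le hk).2 (by omega))⟩
    have := (exists_pow_eq_iff_padic hu hr.out.ne_zero).1 ⟨b, hb⟩
    have := one_le_padicValNat_of_dvd hq h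
    rw [padicValNat_self] at *
    omega

variable {F V : Type*} [Field F] [AddCommGroup V] [Module F V] {σ : F →+* F}
  {B : V →ₛₗ[σ] V →ₗ[F] F} {q r : ℕ}

theorem exists_normOne_iff {p : F → Prop} :
    (∃ c, c * σ c = 1 ∧ p c) ↔ ∃ c : normOne σ, p c.1 :=
  ⟨fun ⟨c, h1, h2⟩ => ⟨⟨.mk0 c (left_ne_zero_of_mul_eq_one h1), h1⟩, h2⟩,
    fun ⟨c, h⟩ => ⟨_, c.2, h⟩⟩

theorem normOne_inj {a b : normOne σ} : (a.1 : F) = b.1 ↔ a = b :=
  ⟨fun h => Subtype.ext (Units.ext h), fun h => h ▸ rfl⟩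

theorem dual_X_sub_C_of_norm {a : F} (ha : a * σ a = 1) : dual σ (X - C a) = X - C a := by
  rw [dual_X_sub_C (left_ne_zero_of_mul_eq_one ha), ← eq_inv_of_mul_eq_one_left ha]

theorem map_dual_lt {M : Multiset F} (h : ∀ a ∈ M, a * σ a = 1) : (lt M).map (dual σ) = lt M :=
  (Multiset.map_congr rfl (forall_lt.2 fun a ha => dual_X_sub_C_of_norm (h a ha))).trans
    (Multiset.map_id' _)

theorem dual_X_sub_one : dual σ (X - C (1 : F)) = X - C 1 := dual_X_sub_C_of_norm (by simp)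

namespace IsBar

variable (hσ : IsBar q σ)
include hσ

theorem exists_kummer_iff [Fact r.Prime] (h : r ∣ q + 1) {n : ℕ} (hn : n ≠ 0) :
    (∃ c : F, c * σ c = 1 ∧ ∃ k, k * r = n ∧ (∀ b, b * σ b = 1 → b ^ r ≠ c) ∧ c ^ k = 1) ↔
      padicValNat r (q + 1) < padicValNat r n := by
  have := hσ.finite
  rw [← hσ.card_normOne, ← exists_kummer_cyclic (hσ.card_normOne ▸ h) hn, exists_normOne_iff]
  refine exists₂_congr fun c k => and_congr_right fun _ => and_congr ?_ ?_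
  · rw [← not_iff_not]
    simpa [← normOne_inj] using exists_normOne_iff (σ := σ) (p := fun b => b ^ r = c.1)
  · simp [← normOne_inj]

theorem exists_pow_eq_neg_one (h2 : (2 : F) ≠ 0) {n : ℕ} (hn : n ≠ 0) :
    (∃ s : F, s * σ s = 1 ∧ s ^ n = -1) ↔ padicValNat 2 n < padicValNat 2 (q + 1) := by
  have := hσ.finite
  let e : normOne σ := ⟨-1, by simp [mem_normOne]⟩
  have he : orderOf e = 2 ^ 1 := orderOf_eq_prime (p := 2) (by simp [← normOne_inj, e]) (by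
    rw [Ne, ← normOne_inj]
    simpa [e, neg_eq_iff_add_eq_zero, one_add_one_eq_two] using h2)
  have := exists_pow_eq_iff_padic he hn
  rw [hσ.card_normOne] at this
  rw [exists_normOne_iff]
  simp only [← normOne_inj] at this
  simpa [e, Nat.lt_iff_add_one_le, add_comm] using this

theorem exists_normOne_pow (hr : r.Prime) (h : ¬ r ∣ q + 1) {c : F} (hc : c * σ c = 1) :
    ∃ b, b * σ b = 1 ∧ b ^ r = c := by
  have := hσ.finite
  obtain ⟨b, hb⟩ := (exists_pow_eq_iff (⟨.mk0 c (left_ne_zero_of_mul_eq_one hc), hc⟩ : normOne σ) r).2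
    (by rw [hσ.card_normOne, hr.coprime_iff_not_dvd.2 h, mul_one, ← hσ.card_normOne]
        exact orderOf_dvd_natCard _)
  exact ⟨b.1, b.2, congrArg (fun z : normOne σ => (z.1 : F)) hb⟩

theorem eq_one_of_pow (hr : r.Prime) (h : ¬ r ∣ q + 1) {c : F} (hc : c * σ c = 1)
    (h1 : c ^ r = 1) : c = 1 := by
  rw [← pow_one c, ← hr.coprime_iff_not_dvd.2 h]
  exact pow_gcd_eq_one.2 ⟨h1, hσ.norm_eq c ▸ hc⟩

theorem norm_one_of_pow (hr : r.Prime) (hr2 : r ≠ 2) (hrq : r ∣ q + 1) {b c : F} (hc : c * σ c = 1)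
    (hb : b ^ r = c) : b * σ b = 1 := by
  have hb0 : b ≠ 0 := by
    rintro rfl
    rw [zero_pow hr.ne_zero] at hb
    simp [← hb] at hc
  have h1 : (b * σ b) ^ r = 1 := by rw [mul_pow, ← map_pow, hb, hc]
  have h2 : (b * σ b) ^ (q - 1) = 1 := (hσ.fixed_iff (mul_ne_zero hb0 ((map_ne_zero σ).2 hb0))).1
    (by rw [map_mul, hσ.invol, mul_comm])
  have h3 : r.Coprime (q - 1) := (Nat.Prime.coprime_iff_not_dvd hr).2 fun h => hr2
    ((Nat.prime_dvd_prime_iff_eq hr Nat.prime_two).1 (by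
      have := Nat.dvd_sub hrq h
      rwa [show q + 1 - (q - 1) = 2 by have := hσ.two_le; omega] at this))
  rw [← pow_one (b * σ b), ← h3.gcd_eq_one]
  exact pow_gcd_eq_one.2 ⟨h1, h2⟩

theorem odd_iff : Odd q ↔ (2 : F) ≠ 0 := by
  have := hσ.finite
  have := Fintype.ofFinite F
  rw [Symp.two_ne_zero_iff_odd_card, ← Nat.card_eq_fintype_card, hσ.card, Nat.odd_pow_iff two_ne_zero]

theorem char_dvd (p : ℕ) [CharP F p] : p ∣ q := (CharP.cast_eq_zero_iff F p q).1 hσ.cast_q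

end IsBar

/-- Every element of order `r` of `PSU(B)` has the property `P`. -/
def ElSU (B : V →ₛₗ[σ] V →ₗ[F] F) (r : ℕ) (P : (V ≃ₗ[F] V) → Prop) : Prop :=
  ∀ g ∈ SUG B, (∃ z : F, (g : End F V) ^ r = z • 1) → (¬ ∃ z : F, (g : End F V) = z • 1) → P g

theorem IsBar.forall_su_iff (hσ : IsBar q σ) {n : ℕ} {P : End F (Fin n → F) → Prop} :
    (∀ x : SpecialLinearGroup (Fin n) F, x ∈ SU n F q → (∃ z : F, (x ^ r).1 = z • 1) →
      (∀ z : F, x.1 ≠ z • 1) → P (toLin' x.1)) ↔ ElSU (stdForm σ (Fin n)) r fun g => P g := by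
  have h0 : ∀ x : SpecialLinearGroup (Fin n) F, (x ^ r).1 = x.1 ^ r := fun x => rfl
  simp only [h0, ← toLin'_eq_smul_one_iff, ne_eq, ← not_exists, toLin'_pow']
  have h1 : ∀ x : SU n F q, ((hσ.suEquiv n x).1 : End F _) = toLin' x.1.1 := fun x =>
    LinearMap.ext fun v => hσ.suEquiv_apply x v
  refine ⟨fun h g hg => ?_, fun h x hx => h1 ⟨x, hx⟩ ▸ h _ (hσ.suEquiv n ⟨x, hx⟩).2⟩
  obtain ⟨x, hx⟩ := (hσ.suEquiv n).surjective ⟨g, hg⟩
  obtain rfl : (hσ.suEquiv n x).1 = g := congrArg Subtype.val hx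
  exact h1 x ▸ h _ x.2

theorem IsBar.glEquiv_mem_SUG (hσ : IsBar q σ) {n : ℕ} {x : GL (Fin n) F} :
    glEquiv _ F x ∈ SUG (stdForm σ (Fin n)) ↔ x ∈ GU n F q ⊓ GeneralLinearGroup.det.ker := by
  rw [mem_SUG, hσ.glEquiv_mem_UG, det_glEquiv]; rfl

theorem IsBar.forall_gu_iff (hσ : IsBar q σ) {n : ℕ} {P : ((Fin n → F) ≃ₗ[F] (Fin n → F)) → Prop} :
    (∀ x ∈ GU n F q ⊓ GeneralLinearGroup.det.ker, (∃ z : F, (x ^ r).1 = z • 1) →
      (∀ z : F, x.1 ≠ z • 1) → P (glEquiv _ F x)) ↔ ElSU (stdForm σ (Fin n)) r P := by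
  simp only [Units.val_pow_eq_pow_val, ← toLin'_eq_smul_one_iff, ne_eq, ← not_exists, toLin'_pow',
    ← hσ.glEquiv_mem_SUG, ← glEquiv_toLinearMap]
  exact ⟨fun H g => let ⟨x, hx⟩ := (glEquiv (Fin n) F).surjective g; hx ▸ H x, fun H x => H _⟩

variable [FiniteDimensional F V] {P : (V ≃ₗ[F] V) → Prop} {μ : Multiset F[X]}

namespace IsHerm

variable (h : IsHerm σ B) (hσ : IsBar q σ)
include h hσ

theorem of_blocks (H : ElSU B r P) (hμ : ∀ P ∈ μ, PP P ∧ P.coeff 0 ≠ 0) (hd : μ.map (dual σ) = μ)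
    (hn : (μ.map natDegree).sum = finrank F V) (h1 : ∀ g ∈ UG B, Blocks (g : End F V) μ →
      LinearMap.det (g : End F V) = 1 ∧ (∃ z : F, (g : End F V) ^ r = z • 1) ∧
        ¬ ∃ z : F, (g : End F V) = z • 1) :
    ∃ g ∈ UG B, (∃ z : F, (g : End F V) ^ r = z • 1) ∧ typ (g : End F V) = μ ∧ P g := by
  obtain ⟨f, hf⟩ := exists_blocks_of_finrank (V := V) (fun P hP => (hμ P hP).1.monic) hn
  have := hσ.finite
  obtain ⟨g, hg, h2⟩ := h.exists_UG_sim hσ (hσ.sd_of_blocks hf (fun P hP => (hμ P hP).2) hd) rfl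
  obtain ⟨h3, h4, h5⟩ := h1 g hg (h2.blocks hf)
  exact ⟨g, hg, h4, (h2.blocks hf).typ_eq fun P hP => (hμ P hP).1, H g (mem_SUG'.2 ⟨hg, h3⟩) h4 h5⟩

theorem of_lt (H : ElSU B r P) {M : Multiset F} (hM : ∀ a ∈ M, a ≠ 0)
    (hd : (lt M).map (dual σ) = lt M) (hn : M.card = finrank F V) (h1 : M.prod = 1) {z : F}
    (h2 : ∀ a ∈ M, a ^ r = z) {a b : F} (ha : a ∈ M) (hb : b ∈ M) (hab : a ≠ b) :
    ∃ g ∈ UG B, (∃ z : F, (g : End F V) ^ r = z • 1) ∧ typ (g : End F V) = lt M ∧ P g :=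
  h.of_blocks hσ H (fun P hP => ⟨lt_pp M P hP, forall_lt (p := fun P => P.coeff 0 ≠ 0).2
    (by simpa using hM) P hP⟩) hd
    ((lt_sum M).trans hn) fun _ _ hg => ⟨hg.lt_det.trans h1, ⟨z, hg.lt_pow_eq_iff.2 h2⟩,
      fun ⟨_, hc⟩ => hab ((hg.lt_eq_smul_iff.1 hc a ha).trans (hg.lt_eq_smul_iff.1 hc b hb).symm)⟩

theorem of_jt (p : ℕ) [Fact p.Prime] [CharP F p] (H : ElSU B p P) {d : Multiset ℕ}
    (hd : ∀ a ∈ d, 0 < a ∧ a ≤ p) (hn : d.sum = finrank F V) (h1 : ¬ ∀ a ∈ d, a ≤ 1) :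
    ∃ g ∈ UG B, (∃ z : F, (g : End F V) ^ p = z • 1) ∧ typ (g : End F V) = jt 1 d ∧ P g := by
  refine h.of_blocks hσ H (fun P hP => ⟨jt_pp 1 (fun a ha => (hd a ha).1) P hP, ?_⟩)
    (map_dual_jt (by simp) d) (by rwa [jt_map_natDegree]) fun g _ hg =>
      ⟨by rw [hg.jt_det, one_pow], ⟨1, ?_⟩, fun ⟨z, hz⟩ => h1 fun a ha => ?_⟩
  · obtain ⟨a, -, rfl⟩ := Multiset.mem_map.1 hP
    simp [coeff_zero_eq_eval_zero]
  · rw [one_smul, ← pow_one p, pow_char_pow_eq_one_iff, ← one_smul F 1, hg.jt_pow_eq_zero_iff]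
    exact fun a ha => (hd a ha).2.trans (pow_one p).ge
  · simpa [-map_one] using hg.natDegree_eq_one hz (Multiset.mem_map_of_mem _ ha)

theorem of_rf (hr : r.Prime) (hq : ¬ r ∣ q + 1) (H : ElSU B r P) {ν : Multiset F[X]}
    (h1 : ∀ φ ∈ ν, RF r φ) (hd : ν.map (dual σ) = ν) (h0 : ν ≠ 0) {k : ℕ}
    (hn : k + (ν.map natDegree).sum = finrank F V) :
    ∃ g ∈ UG B, (∃ z : F, (g : End F V) ^ r = z • 1) ∧
      typ (g : End F V) = .replicate k (X - C 1) + ν ∧ P g := by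
  have := hσ.finite
  refine h.of_blocks hσ H (fun P hP => ⟨Symp.pp_RF h1 k P hP, (Multiset.mem_add.1 hP).elim
    (fun h => by simp [Multiset.eq_of_mem_replicate h]) fun h => (h1 P h).coeff_ne hr.ne_zero⟩)
    (by rw [Multiset.map_add, hd, Multiset.map_replicate, dual_X_sub_one])
    (by simpa [-map_one] using hn) fun g hg hb => ?_
  have h2 := Symp.pow_eq_one_RF h1 hb
  refine ⟨hσ.eq_one_of_pow hr hq (h.det_mul_conj hg) (by rw [← map_pow, h2, map_one]),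
    ⟨1, by rwa [one_smul]⟩, fun ⟨z, hz⟩ => ?_⟩
  obtain ⟨φ, hφ⟩ := Multiset.exists_mem_of_ne_zero h0
  have h3 := hb.pow_eq_smul_one_iff.1 ((pow_one _).trans hz) φ (Multiset.mem_add.2 (.inr hφ))
  have h4 := eq_of_monic_of_associated (h1 φ hφ).1 (monic_X_sub_C z)
    ((h1 φ hφ).2.1.associated_of_dvd (irreducible_X_sub_C z) (pow_one (X : F[X]) ▸ h3))
  have : Nontrivial V := Module.nontrivial_of_finrank_pos (R := F) (lt_of_lt_of_le
    (h1 φ hφ).pp.natDegree_pos (natDegree_le_of_mem hb (Multiset.mem_add.2 (.inr hφ))))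
  refine (h1 φ hφ).2.2.2 (h4.trans (congrArg (X - C ·) (hσ.eq_one_of_pow hr hq
    (h.norm_one_of_smul hg fun v => LinearMap.congr_fun hz v) ?_)))
  exact X_sub_C_dvd_iff.1 (h4 ▸ (h1 φ hφ).2.2.1)

theorem of_kummer (hr : r.Prime) (hr2 : r ≠ 2) (hq : r ∣ q + 1) (H : ElSU B r P) {c : F}
    (hc : c * σ c = 1) {k : ℕ} (hk : k * r = finrank F V) (hk0 : k ≠ 0)
    (h1 : ∀ b, b * σ b = 1 → b ^ r ≠ c) (h2 : c ^ k = 1) :
    ∃ g ∈ UG B, End.IsSemisimple (g : End F V) ∧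
      typ (g : End F V) = .replicate k (X ^ r - C c) ∧ P g := by
  have h3 : ∀ b, b ^ r ≠ c := fun b hb => h1 b (hσ.norm_one_of_pow hr hr2 hq hc hb) hb
  have h4 := X_pow_sub_C_irreducible_of_prime hr h3
  have h0 := left_ne_zero_of_mul_eq_one hc
  obtain ⟨g, hg, -, h5, h6⟩ := h.of_blocks hσ H (μ := .replicate k (X ^ r - C c)) (fun P hP =>
    Multiset.eq_of_mem_replicate hP ▸ ⟨.of_irreducible (monic_X_pow_sub_C _ hr.ne_zero) h4, by
      simpa [coeff_X_pow, hr.ne_zero.symm]⟩) (by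
      rw [Multiset.map_replicate, dual_X_pow_sub_C h0 hr.ne_zero, ← eq_inv_of_mul_eq_one_left hc])
    (by simpa) fun g _ hg => by
      have h5 : (g : End F V) ^ r = c • 1 := hg.pow_eq_smul_one_iff.2 fun P hP =>
        Multiset.eq_of_mem_replicate hP ▸ dvd_rfl
      obtain ⟨l, h6, -, h7⟩ := typ_of_kummer hr h3 h5
      refine ⟨?_, ⟨c, h5⟩, fun ⟨z, hz⟩ => ?_⟩
      · rw [h7, (hr.odd_of_ne_two hr2).neg_one_pow, Nat.eq_of_mul_eq_mul_right hr.pos (h6.trans hk.symm)]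
        simpa using h2
      · have := hg.natDegree_eq_one hz (Multiset.mem_replicate.2 ⟨hk0, rfl⟩)
        rw [natDegree_X_pow_sub_C] at this
        exact hr.one_lt.not_ge this
  exact ⟨g, hg, isSemisimple_iff_typ.2 fun P hP =>
    Multiset.eq_of_mem_replicate (h5 ▸ hP) ▸ h4, h5, h6⟩

theorem elSU_of [Nontrivial V] (hP : ∀ g (c : Fˣ), P g → P (scal V c * g))
    (h1 : ∀ g ∈ UG B, (g : End F V) ^ r = 1 → (¬ ∃ z : F, (g : End F V) = z • 1) →
      (∃ s, s * σ s = 1 ∧ s ^ finrank F V * LinearMap.det (g : End F V) = 1) → P g)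
    (h2 : ∀ g ∈ SUG B, ∀ c, c * σ c = 1 → (∀ b, b * σ b = 1 → b ^ r ≠ c) →
      (g : End F V) ^ r = c • 1 → P g) : ElSU B r P := by
  intro g hg ⟨c, hc⟩ h3
  have := hσ.finite
  have h4 := hσ.norm_eq_one_of_pow (h.sd hσ hg.1) hc
  by_cases h5 : ∃ b, b * σ b = 1 ∧ b ^ r = c
  swap
  · exact h2 g hg c h4 (by simpa using h5) hc
  obtain ⟨b, rfl⟩ := exists_normOne_iff.1 h5
  have h6 : ((scal V b.1⁻¹ * g : V ≃ₗ[F] V) : End F V) = (b.1 : F)⁻¹ • (g : End F V) :=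
    LinearMap.ext fun v => by simp [-map_inv]
  have := hP _ b.1 (h1 _ (mul_mem (scal_mem_UG (inv_mem b.2)) hg.1) ?_ (fun ⟨z, hz⟩ => h3 ⟨b.1 * z, ?_⟩)
    ⟨b.1, b.2, ?_⟩)
  · rwa [← mul_assoc, ← map_mul, mul_inv_cancel, map_one, one_mul] at this
  · rw [h6, _root_.smul_pow, hc, smul_smul, ← mul_pow, inv_mul_cancel₀ b.1.ne_zero, one_pow, one_smul]
  · rw [← smul_smul, ← hz, h6, smul_inv_smul₀ b.1.ne_zero]
  · rw [h6, LinearMap.det_smul, (mem_SUG'.1 hg).2, mul_one, ← mul_pow, mul_inv_cancel₀ b.1.ne_zero,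
      one_pow]

omit h hσ in
theorem _root_.Cfsg.Lib.Unitary.typ_of_sq [Finite F] (h2 : (2 : F) ≠ 0) {f : End F V} {s : F} (hs : s ≠ 0)
    (hf : f ^ 2 = s ^ 2 • 1) : ∃ k l, k + l = finrank F V ∧
      Blocks f (lt (.replicate k s + .replicate l (-s))) := by
  classical
  have := Fintype.ofFinite F
  obtain ⟨M, hM⟩ := exists_lt_of_pow (by
    have := Nat.odd_iff.1 (Symp.two_ne_zero_iff_odd_card.1 h2)
    rw [Nat.card_eq_fintype_card]; omega) hs hf
  have h3 : M = .replicate _ s + .replicate _ (-s) := (M.filter_add_not (· = s)).symm.trans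
    (congrArg₂ (· + ·) (Multiset.eq_replicate_card.2 fun a ha => (Multiset.mem_filter.1 ha).2)
      (Multiset.eq_replicate_card.2 fun a ha => (sq_eq_sq_iff_eq_or_eq_neg.1 (hM.lt_pow_eq_iff.1 hf a
        (Multiset.mem_filter.1 ha).1)).resolve_left (Multiset.mem_filter.1 ha).2))
  rw [h3] at hM
  exact ⟨_, _, by simpa using hM.lt_card, hM⟩

theorem typ_of_nonsq (h2 : (2 : F) ≠ 0) {g : V ≃ₗ[F] V} (hg : g ∈ UG B) {c : F} (hc : c * σ c = 1)
    (h1 : ∀ b, b * σ b = 1 → b ^ 2 ≠ c) (h3 : (g : End F V) ^ 2 = c • 1) :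
    ∃ s k, s * σ s = -1 ∧ 2 * k = finrank F V ∧ LinearMap.det (g : End F V) = (-c) ^ k ∧
      typ (g : End F V) = .replicate k (X - C s) + .replicate k (X - C (-s)) := by
  classical
  have := hσ.finite
  obtain ⟨e, he⟩ := hσ.odd_iff.2 h2
  obtain ⟨s, hs, rfl⟩ := exists_pow_eq_of_pow_eq_one (a := (q + 1) * e) (b := 2) (x := c) (by
    rw [hσ.card_sub_one, he]; simp; ring) (by rw [pow_mul, ← hσ.norm_eq, hc, one_pow])
  have h4 : s * σ s = -1 := (sq_eq_one_iff.1 (by rw [mul_pow, ← map_pow, hc])).resolve_left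
    fun h => h1 s h rfl
  obtain ⟨k, l, h5, h6⟩ := typ_of_sq h2 hs h3
  have h7 := (h.sd hσ hg).2
  have h8 : dual σ (X - C s) = X - C (-s) := by
    rw [dual_X_sub_C hs, ← eq_inv_of_mul_eq_one_left (show -s * σ s = 1 by simp [h4])]
  have h9 : dual σ (X - C (-s)) = X - C s := by
    rw [← h8, hσ.dual_dual (monic_X_sub_C s) (by simpa)]
  have h10 : s ≠ -s := fun h => hs (by
    have : 2 * s = 0 := by linear_combination h
    exact (mul_eq_zero.1 this).resolve_left h2)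
  rw [h6.lt_typ, lt_add, lt_replicate, lt_replicate, Multiset.map_add, Multiset.map_replicate,
    Multiset.map_replicate, h8, h9, ← lt_replicate, ← lt_replicate, ← lt_replicate, ← lt_replicate,
    ← lt_add, ← lt_add] at h7
  have h11 := congrArg (Multiset.count s) (lt_injective h7)
  simp only [Multiset.count_add, Multiset.count_replicate, h10.symm, if_true, if_false] at h11
  obtain rfl : k = l := by omega
  refine ⟨s, k, h4, by omega, ?_, by rw [h6.lt_typ, lt_add, lt_replicate, lt_replicate]⟩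
  rw [h6.lt_det, Multiset.prod_add, Multiset.prod_replicate, Multiset.prod_replicate, ← mul_pow]
  congr 1; ring

end IsHerm

end Cfsg.Lib.Unitary
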