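import Cfsg.Agent.Lib.Unitary.ElusB

/-!
# Elements of odd prime order `r ≠ p` of `PSU`
-/

set_option autoImplicit false

namespace Cfsg.Lib.Unitary

open Module Matrix Polynomial Cfsg.Lib.GLC
open Cfsg.Lib.Symp (RF exists_le_card)

variable {F V : Type*} [Field F] [AddCommGroup V] [Module F V] {σ : F →+* F}
  {B : V →ₛₗ[σ] V →ₗ[F] F} {q r i b c : ℕ} {φ : F[X]} {ν : Multiset F[X]}

/-- The data attached to an odd prime `r` different from the characteristic. -/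
structure UP (σ : F →+* F) (q r i b c : ℕ) : Prop where
  bar : IsBar q σ
  prime : r.Prime
  ne2 : r ≠ 2
  ne : (r : F) ≠ 0
  hi : i = orderOf (q : ZMod r)
  hb : b = if Even i then i / 2 else i
  hc : c = if i % 4 = 0 then i else if i % 4 = 2 then i / 2 else 2 * i

theorem natCast_ne_zero_of_ne {p : ℕ} [Fact p.Prime] [CharP F p] (hr : r.Prime) (hp : r ≠ p) :
    (r : F) ≠ 0 := mt (CharP.cast_eq_zero_iff F p r).1
  (mt (Nat.prime_dvd_prime_iff_eq Fact.out hr).1 hp.symm)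

theorem IsBar.dual_of_norm_neg (hσ : IsBar q σ) (h2 : (2 : F) ≠ 0) {s : F} (h : s * σ s = -1) :
    dual σ (X - C s) = X - C (-s) ∧ dual σ (X - C (-s)) = X - C s ∧ s ≠ -s := by
  have hs : s ≠ 0 := by rintro rfl; simp at h
  have h8 : dual σ (X - C s) = X - C (-s) := by
    rw [dual_X_sub_C hs, ← eq_inv_of_mul_eq_one_left (show -s * σ s = 1 by simp [h])]
  exact ⟨h8, by rw [← h8, hσ.dual_dual (monic_X_sub_C s) (by simpa)], fun h => hs
    ((mul_eq_zero.1 (show 2 * s = 0 by linear_combination h)).resolve_left h2)⟩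

namespace UP

variable (u : UP σ q r i b c)
include u

theorem i_pos : 0 < i := by
  have := u.bar.finite
  have h := orderOf_card_pos u.prime u.ne
  rw [u.bar.card, Nat.cast_pow, orderOf_pos_iff] at h
  exact u.hi ▸ orderOf_pos_iff.2 (h.of_pow two_ne_zero)

theorem b_eq : orderOf (Nat.card F : ZMod r) = b := by
  rw [u.bar.card, orderOf_sq_zmod (u.hi ▸ u.i_pos), ← u.hi, u.hb]
  rcases i.even_or_odd with h | h <;> simp [h, ← Nat.not_even_iff_odd, Nat.not_even_iff_odd.2]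

theorem cases : i % 4 = 2 ∧ c = b ∧ i = 2 * b ∨ i % 4 ≠ 2 ∧ c = 2 * b ∧ (i = c ∨ i = b) := by
  have h1 := u.hb
  have h2 := u.hc
  simp only [Nat.even_iff] at h1
  split_ifs at h1 h2 <;> omega

theorem b_pos : 0 < b := by have := u.i_pos; have := u.cases; omega

theorem c_pos : 0 < c := by have := u.b_pos; have := u.cases; omega

theorem dvd_sub_iff {j : ℕ} : r ∣ q ^ j - 1 ↔ i ∣ j :=
  u.hi ▸ dvd_pow_sub_one_iff (by have := u.bar.two_le; omega)

theorem of_dvd_add {j : ℕ} (hj : Odd j) (h : r ∣ q ^ j + 1) : i % 4 = 2 ∧ b ∣ j := by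
  have h1 : i ∣ 2 * j := u.dvd_sub_iff.1 (by
    rw [pow_mul', ← one_pow 2, Nat.sq_sub_sq]; exact h.mul_right _)
  have h2 : ¬ i ∣ j := fun h2 => u.ne2 ((Nat.prime_dvd_prime_iff_eq u.prime Nat.prime_two).1 (by
    have := Nat.dvd_sub h (u.dvd_sub_iff.2 h2)
    have h3 : 0 < q ^ j := pow_pos (by have := u.bar.two_le; omega) _
    rwa [show q ^ j + 1 - (q ^ j - 1) = 2 by omega] at this))
  obtain ⟨k, hk⟩ : Even i := by
    by_contra h3
    exact h2 ((Nat.not_even_iff_odd.1 h3).coprime_two_right.dvd_of_dvd_mul_left h1)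
  have h3 : k ∣ j := Nat.dvd_of_mul_dvd_mul_left two_pos (by rwa [two_mul, ← hk])
  have h4 := Nat.odd_iff.1 (hj.of_dvd_nat h3)
  have := u.cases
  exact ⟨by omega, (show k = b by omega) ▸ h3⟩

theorem dvd_of_uf {j : ℕ} (h : r ∣ uf q j) : c ∣ j + 1 := by
  unfold uf at h
  split_ifs at h with h1
  · have h2 := u.of_dvd_add h1.add_one h
    have := u.cases
    exact (show b = c by omega) ▸ h2.2
  · have h2 := u.dvd_sub_iff.1 h
    have h3 : 2 ∣ j + 1 := even_iff_two_dvd.1 (Nat.not_even_iff_odd.1 h1).add_one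
    have h4 := u.hc
    split_ifs at h4 with h5 h6
    · exact h4 ▸ h2
    · exact h4 ▸ (Nat.div_dvd_of_dvd (by omega)).trans h2
    · exact h4 ▸ Nat.Coprime.mul_dvd_of_dvd_of_dvd (Odd.coprime_two_left (Nat.odd_iff.2 (by omega))) h3 h2

theorem dvd_iff : r ∣ q + 1 ↔ i = 2 := by
  refine ⟨fun h => ?_, fun h => ?_⟩
  · have h1 := u.of_dvd_add odd_one (by rwa [pow_one])
    have := u.cases
    have := Nat.dvd_one.1 h1.2
    omega
  · have h1 := u.dvd_sub_iff.2 (h ▸ dvd_rfl : i ∣ 2)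
    rw [← one_pow 2, Nat.sq_sub_sq, u.prime.dvd_mul] at h1
    refine h1.resolve_right fun h2 => ?_
    have := Nat.dvd_one.1 (u.dvd_sub_iff.1 (by rwa [pow_one]))
    omega

theorem not_dvd : ¬ r ∣ q := fun h => by
  have := Fact.mk u.prime
  have h1 := u.i_pos
  rw [u.hi, (ZMod.natCast_eq_zero_iff _ _).2 h, orderOf_zero] at h1
  exact h1.false

theorem exists_dvd {e m k : ℕ} (h : r ∣ q ^ e * ∏ j ∈ .range k, uf q (m + j)) :
    ∃ j < k, c ∣ m + j + 1 := by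
  obtain ⟨j, h1, h2⟩ := (u.prime.prime.dvd_finsetProd_iff _).1 ((u.prime.dvd_mul.1 h).resolve_left
    fun h1 => u.not_dvd (u.prime.dvd_of_dvd_pow h1))
  exact ⟨j, Finset.mem_range.1 h1, u.dvd_of_uf h2⟩

theorem exists_finset : ∃ S : Finset F[X], (∀ φ, φ ∈ S ↔ RF r φ) ∧ S.card * b = r - 1 :=
  have := u.bar.finite; u.b_eq ▸ Symp.exists_finset_RF u.prime u.ne

theorem exists_rf : ∃ φ : F[X], RF r φ := have := u.bar.finite; exists_RF u.prime u.ne

theorem sum_eq (hν : ∀ φ ∈ ν, RF r φ) : (ν.map natDegree).sum = ν.card * b :=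
  have := u.bar.finite; u.b_eq ▸ Symp.sum_natDegree_RF u.prime hν

theorem dual_eq_iff (hφ : RF r φ) : dual σ φ = φ ↔ i % 4 = 2 :=
  u.hi ▸ u.bar.rf_dual_eq_iff hφ u.prime u.ne2

theorem map_dual (he : i % 4 = 2) (hν : ∀ φ ∈ ν, RF r φ) : ν.map (dual σ) = ν := by
  rw [Multiset.map_congr rfl fun φ hφ => (u.dual_eq_iff (hν φ hφ)).2 he, Multiset.map_id']

theorem map_add_map (hν : ∀ φ ∈ ν, RF r φ) : (∀ φ ∈ ν + ν.map (dual σ), RF r φ) ∧
    (ν + ν.map (dual σ)).map (dual σ) = ν + ν.map (dual σ) := by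
  refine ⟨fun φ hφ => (Multiset.mem_add.1 hφ).elim (hν φ) fun h1 => ?_, ?_⟩
  · obtain ⟨φ, h2, rfl⟩ := Multiset.mem_map.1 h1
    exact u.bar.rf_dual (hν φ h2) u.prime.ne_zero
  · rw [Multiset.map_add, Multiset.map_map, add_comm, Multiset.map_congr (f := dual σ ∘ dual σ)
      (g := id) rfl fun P hP => u.bar.dual_dual (hν P hP).1 ((hν P hP).coeff_ne u.prime.ne_zero),
      Multiset.map_id]

theorem exists_eq_add_map (ho : i % 4 ≠ 2) (hν : ∀ φ ∈ ν, RF r φ) (hd : ν.map (dual σ) = ν) :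
    ∃ τ, ν = τ + τ.map (dual σ) := by
  classical
  obtain ⟨S, hS, -⟩ := u.exists_finset
  obtain ⟨T, -, -, h1⟩ := Symp.exists_half (S := S) (ι := dual σ) fun φ hφ =>
    ⟨(hS _).2 (u.bar.rf_dual ((hS _).1 hφ) u.prime.ne_zero),
      u.bar.dual_dual ((hS _).1 hφ).1 (((hS _).1 hφ).coeff_ne u.prime.ne_zero),
      mt (u.dual_eq_iff ((hS _).1 hφ)).1 ho⟩
  exact ⟨_, Symp.eq_add_map h1 (fun φ hφ => (hS _).2 (hν φ hφ)) hd⟩

theorem blocks (hν : ∀ φ ∈ ν, RF r φ) (hd : ν.map (dual σ) = ν) :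
    ∃ n, (ν.map natDegree).sum = c * n ∧
      ∀ a ≤ n, ∃ ρ ≤ ν, ρ.map (dual σ) = ρ ∧ (ρ.map natDegree).sum = c * a := by
  have h1 := fun ρ (hρ : ρ ≤ ν) φ hφ => hν φ (Multiset.mem_of_le hρ hφ)
  rcases u.cases with ⟨he, hc, -⟩ | ⟨ho, hc, -⟩
  · refine ⟨ν.card, by rw [u.sum_eq hν, hc, mul_comm], fun a ha => ?_⟩
    obtain ⟨ρ, h2, rfl⟩ := exists_le_card ha
    exact ⟨ρ, h2, u.map_dual he (h1 ρ h2), by rw [u.sum_eq (h1 ρ h2), hc, mul_comm]⟩
  · obtain ⟨τ, rfl⟩ := u.exists_eq_add_map ho hν hd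
    have h3 : ∀ ρ ≤ τ, ((ρ + ρ.map (dual σ)).map natDegree).sum = c * ρ.card := fun ρ hρ => by
      rw [u.sum_eq (h1 _ (add_le_add hρ (Multiset.map_le_map hρ))), hc]
      simp; ring
    refine ⟨τ.card, h3 τ le_rfl, fun a ha => ?_⟩
    obtain ⟨ρ, h2, rfl⟩ := exists_le_card ha
    exact ⟨_, add_le_add h2 (Multiset.map_le_map h2),
      (u.map_add_map (h1 ρ (h2.trans le_self_add))).2, h3 ρ h2⟩

theorem exists_blocks (n : ℕ) : ∃ ν : Multiset F[X], (∀ φ ∈ ν, RF r φ) ∧ ν.map (dual σ) = ν ∧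
    (ν.map natDegree).sum = c * n := by
  obtain ⟨φ, hφ⟩ := u.exists_rf
  have h2 : ∀ ψ ∈ Multiset.replicate n φ, RF r ψ := fun ψ h => Multiset.eq_of_mem_replicate h ▸ hφ
  rcases u.cases with ⟨he, hc, -⟩ | ⟨-, hc, -⟩
  · exact ⟨_, h2, u.map_dual he h2, by simp [u.sum_eq h2, hc, mul_comm, -Multiset.map_replicate]⟩
  · refine ⟨_, (u.map_add_map h2).1, (u.map_add_map h2).2, ?_⟩
    rw [u.sum_eq (u.map_add_map h2).1, hc]
    simp; ring

variable [FiniteDimensional F V] {P : (V ≃ₗ[F] V) → Prop} (h : IsHerm σ B)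
include h

theorem elSU [Nontrivial V] (hP : ∀ g (c : Fˣ), P g → P (scal V c * g))
    (h1 : ∀ g ∈ UG B, End.IsSemisimple (g : End F V) → ∀ k ν, (∀ φ ∈ ν, RF r φ) →
      ν.map (dual σ) = ν → typ (g : End F V) = .replicate k (X - C 1) + ν → P g)
    (h2 : i = 2 → padicValNat r (q + 1) < padicValNat r (finrank F V) → ∀ g ∈ UG B,
      End.IsSemisimple (g : End F V) → ∀ k Q, Q.natDegree = r → dual σ Q = Q →
        typ (g : End F V) = .replicate k Q → P g) : ElSU B r P := by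
  have := Fact.mk u.prime
  refine h.elSU_of u.bar hP (fun g hg h3 _ _ => ?_) fun g hg z hz h3 h4 => ?_
  · obtain ⟨k, ν, h4, h5⟩ := Symp.exists_typ_RF u.ne h3
    refine h1 g hg (isSemisimple_of_pow_eq u.ne one_ne_zero (by rwa [one_smul])) k ν h4
      (map_dual_right (h5 ▸ (h.sd u.bar hg).2) ?_) h5
    rw [Multiset.map_replicate, dual_X_sub_one]
  have h5 : r ∣ q + 1 := by_contra fun h5 =>
    let ⟨a, ha, e⟩ := u.bar.exists_normOne_pow u.prime h5 hz; h3 a ha e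
  have h0 := left_ne_zero_of_mul_eq_one hz
  obtain ⟨k, h6, h7, h8⟩ := typ_of_kummer u.prime
    (fun a ha => h3 a (u.bar.norm_one_of_pow u.prime u.ne2 h5 hz ha) ha) h4
  refine h2 (u.dvd_iff.1 h5) ((u.bar.exists_kummer_iff h5 finrank_pos.ne').1 ⟨z, hz, k, h6, h3, ?_⟩) g hg.1
    (isSemisimple_of_pow_eq u.ne h0 h4) k _ natDegree_X_pow_sub_C ?_ h7
  · simpa [(u.prime.odd_of_ne_two u.ne2).neg_one_pow, (mem_SUG'.1 hg).2] using h8.symm
  · rw [dual_X_pow_sub_C h0 u.prime.ne_zero, ← eq_inv_of_mul_eq_one_left hz]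

theorem of_kummer [Nontrivial V] (H : ElSU B r P) (hi : i = 2)
    (h1 : padicValNat r (q + 1) < padicValNat r (finrank F V)) :
    ∃ g ∈ UG B, End.IsSemisimple (g : End F V) ∧ (∀ Q ∈ typ (g : End F V), Q.natDegree = r) ∧ P g := by
  have := Fact.mk u.prime
  obtain ⟨z, hz, k, h2, h3, h4⟩ := (u.bar.exists_kummer_iff (u.dvd_iff.2 hi) finrank_pos.ne').2 h1
  obtain ⟨g, hg, h5, h6, h7⟩ := h.of_kummer u.bar u.prime u.ne2 (u.dvd_iff.2 hi) H hz h2
    (by rintro rfl; exact finrank_pos.ne (by simpa using h2)) h3 h4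
  exact ⟨g, hg, h5, fun Q hQ => Multiset.eq_of_mem_replicate (h6 ▸ hQ) ▸ natDegree_X_pow_sub_C, h7⟩

theorem of_rf (H : ElSU B r P) (hi : i ≠ 2) (h1 : ∀ φ ∈ ν, RF r φ) (hd : ν.map (dual σ) = ν)
    (h0 : ν ≠ 0) {k : ℕ} (hn : k + ν.card * b = finrank F V) :
    ∃ g ∈ UG B, End.IsSemisimple (g : End F V) ∧ (∃ z : F, (g : End F V) ^ r = z • 1) ∧
      typ (g : End F V) = .replicate k (X - C 1) + ν ∧ P g := by
  obtain ⟨g, hg, h2, h3, h4⟩ := h.of_rf u.bar u.prime (mt u.dvd_iff.1 hi) H h1 hd h0 (u.sum_eq h1 ▸ hn)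
  exact ⟨g, hg, isSemisimple_iff_typ.2 fun Q hQ => (Multiset.mem_add.1 (h3 ▸ hQ :)).elim
    (fun h => Multiset.eq_of_mem_replicate h ▸ irreducible_X_sub_C 1) fun h => (h1 Q h).2.1, h2, h3, h4⟩

theorem of_two (H : ElSU B r P) (hi : i = 2) {t k : ℕ} (h2 : 2 ≤ t) (ht : t ≤ r)
    (hn : t + k = finrank F V) : ∃ T : Multiset F, T.Nodup ∧ T.card = t ∧
      (∀ a ∈ T, a * σ a = 1) ∧ ∃ g ∈ UG B, End.IsSemisimple (g : End F V) ∧
      (∃ z : F, (g : End F V) ^ r = z • 1) ∧ typ (g : End F V) = lt (T + .replicate k 1) ∧ P g := by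
  obtain ⟨ω, hω, h3⟩ := u.bar.exists_normOne_orderOf (u.dvd_iff.2 hi)
  have h4 : IsPrimitiveRoot ω r := h3 ▸ IsPrimitiveRoot.orderOf ω
  have h0 := left_ne_zero_of_mul_eq_one hω
  let f : ℕ → F := fun j => (ω ^ 2) ^ j * ω ^ (1 + t * (r - 1))
  have hf : ∀ j < t, ∀ j' < t, f j = f j' → j = j' := fun j hj j' hj' e =>
    (h4.pow_of_coprime 2 (u.prime.odd_of_ne_two u.ne2).coprime_two_left).pow_inj (by omega) (by omega)
      (mul_right_cancel₀ (pow_ne_zero _ h0) e)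
  have h5 : ∀ a ∈ (Multiset.range t).map f + .replicate k 1, ∃ j, a = ω ^ j := fun a ha => by
    rcases Multiset.mem_add.1 ha with ha | ha
    · obtain ⟨j, -, rfl⟩ := Multiset.mem_map.1 ha
      exact ⟨_, by simp only [f]; rw [← pow_mul, ← pow_add]⟩
    · exact ⟨0, by simp [Multiset.eq_of_mem_replicate ha]⟩
  have h6 : ∀ a ∈ (Multiset.range t).map f + .replicate k 1, a * σ a = 1 := fun a ha => by
    obtain ⟨j, rfl⟩ := h5 a ha
    rw [map_pow, ← mul_pow, hω, one_pow]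
  have h7 : ∀ j < t, f j ∈ (Multiset.range t).map f + .replicate k 1 := fun j hj =>
    Multiset.mem_add.2 (.inl (Multiset.mem_map_of_mem _ (Multiset.mem_range.2 hj)))
  obtain ⟨g, hg, h8, h9, h10⟩ := h.of_lt u.bar H (fun a ha => left_ne_zero_of_mul_eq_one (h6 a ha))
    (map_dual_lt h6) (by simpa) (z := 1) (by
      rw [Multiset.prod_add, Multiset.prod_replicate, one_pow, mul_one]
      change ∏ j ∈ Finset.range t, f j = 1
      rw [Finset.prod_mul_distrib, Finset.prod_pow_eq_pow_sum, Finset.prod_const, Finset.card_range,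
        ← pow_mul, ← pow_mul, ← pow_add, mul_comm 2, Finset.sum_range_id_mul_two,
        show t * (t - 1) + (1 + t * (r - 1)) * t = r * (t * t) by
          obtain ⟨t, rfl⟩ := Nat.exists_eq_add_of_le' (show 1 ≤ t by omega)
          obtain ⟨r, rfl⟩ := Nat.exists_eq_add_of_le' (show 1 ≤ r by omega)
          simp; ring, pow_mul, h4.pow_eq_one, one_pow])
    (fun a ha => by obtain ⟨j, rfl⟩ := h5 a ha; rw [pow_right_comm, h4.pow_eq_one, one_pow])
    (h7 0 (by omega)) (h7 1 (by omega)) fun e => zero_ne_one (hf 0 (by omega) 1 (by omega) e)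
  exact ⟨_, (Multiset.nodup_range t).map_on fun j hj j' hj' => hf j (Multiset.mem_range.1 hj) j'
    (Multiset.mem_range.1 hj'), by simp, fun a ha => h6 a (Multiset.mem_add.2 (.inl ha)), g, hg,
    (h9 ▸ blocks_typ (g : End F V)).lt_isSemisimple, h8, h9, h10⟩

end UP

end Cfsg.Lib.Unitary
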