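import Cfsg.Agent.Lib.Symp.PrimeOrd
import Cfsg.Agent.Lib.Unitary.Wall5

/-!
Elements of prime order in unitary groups.
-/

set_option autoImplicit false

namespace Cfsg.Lib.Unitary

open Module Matrix Polynomial Cfsg.Lib.GLC
open Cfsg.Lib.Symp (RF)

variable {F : Type*} [Field F] {q n r : ℕ} {σ : F →+* F} {φ : F[X]}

theorem orderOf_toLin'_gu (g : GU n F q) : orderOf (toLin' g.1.1) = orderOf g := by
  rw [orderOf_toLin'_gl]; exact orderOf_injective (GU n F q).subtype Subtype.val_injective g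

theorem orderOf_toLin'_su (g : SU n F q) : orderOf (toLin' g.1.1) = orderOf g := by
  rw [orderOf_toLin'_sl]; exact orderOf_injective (SU n F q).subtype Subtype.val_injective g

theorem orderOf_sq_zmod {r q : ℕ} (h : 0 < orderOf (q : ZMod r)) :
    orderOf ((q ^ 2 : ℕ) : ZMod r) =
      if Odd (orderOf (q : ZMod r)) then orderOf (q : ZMod r) else orderOf (q : ZMod r) / 2 := by
  rw [Nat.cast_pow, (orderOf_pos_iff.1 h).orderOf_pow]
  split_ifs with h1
  · rw [(Odd.coprime_two_right h1).gcd_eq_one, Nat.div_one]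
  · rw [Nat.gcd_eq_right (even_iff_two_dvd.1 (Nat.not_odd_iff_even.1 h1))]

namespace IsBar

variable (hσ : IsBar q σ)
include hσ

theorem rf_dual (h : RF r φ) (hr : r ≠ 0) : RF r (dual σ φ) := by
  have h0 := h.coeff_ne hr
  refine ⟨monic_dual h0, hσ.irreducible_dual h.1 h0 h.2.1, ?_, fun e => h.2.2.2 ?_⟩
  · have := dvd_X_pow_sub_C_dual (σ := σ) (c := 1) one_ne_zero hr (by simpa using h.2.2.1)
    simpa using this
  · rw [← hσ.dual_dual h.1 h0, e, dual_X_sub_C one_ne_zero]; simp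

theorem rf_dual_eq_iff (h : RF r φ) (hr : r.Prime) (ho : r ≠ 2) :
    dual σ φ = φ ↔ orderOf (q : ZMod r) % 4 = 2 := by
  haveI := hσ.finite
  haveI := Fact.mk hr
  haveI := Fact.mk h.2.1
  have h0 := h.coeff_ne hr.ne_zero
  have hd := h.natDegree_eq hr
  have hpos := h.2.1.natDegree_pos
  rw [hσ.card] at hd
  have hi : 0 < orderOf (q : ZMod r) := by
    rw [hd, Nat.cast_pow, orderOf_pos_iff] at hpos
    exact orderOf_pos_iff.2 (hpos.of_pow two_ne_zero)
  rw [orderOf_sq_zmod hi] at hd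
  have ha : AdjoinRoot.root φ ≠ 0 := by
    obtain ⟨u, hu⟩ := Symp.isUnit_root h0
    exact hu ▸ u.ne_zero
  have hm : minpoly F (AdjoinRoot.root φ) = φ := by
    rw [AdjoinRoot.minpoly_root h.1.ne_zero, h.1.leadingCoeff, inv_one, C_1, mul_one]
  have hor : orderOf (AdjoinRoot.root φ) = r := by
    refine ((Nat.dvd_prime hr).1 (dvd_X_pow_sub_one_iff.1 h.2.2.1)).resolve_left fun h1 => h.2.2.2 ?_
    rw [← hm, orderOf_eq_one_iff.1 h1, minpoly.one]; simp
  haveI : Module.Finite F (AdjoinRoot φ) := (AdjoinRoot.powerBasis' h.1).finite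
  haveI : Finite (AdjoinRoot φ) := Module.finite_of_finite F
  have hne : (1 : ZMod r) ≠ -1 := fun e => ho (by
    have : ((2 : ℕ) : ZMod r) = 0 := by push_cast; linear_combination e
    exact (Nat.prime_dvd_prime_iff_eq hr Nat.prime_two).1 ((ZMod.natCast_eq_zero_iff _ _).1 this))
  constructor
  · intro e
    obtain ⟨h1, h2⟩ := hσ.odd_of_dual_eq h.1 h.2.1 h0 e
    have h3 := dvd_X_pow_sub_one_iff.1 h2
    rw [hor, ← ZMod.natCast_eq_zero_iff] at h3
    push_cast at h3
    split_ifs at hd with h4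
    · rw [hd, pow_orderOf_eq_one] at h3
      exact absurd (eq_neg_of_add_eq_zero_left h3) hne
    · rw [hd] at h1
      obtain ⟨k, hk⟩ := h1
      have := Nat.not_odd_iff_even.1 h4
      obtain ⟨l, hl⟩ := this
      omega
  · intro e
    have h1 : Odd (orderOf (q : ZMod r) / 2) := Nat.odd_iff.2 (by omega)
    have h2 : (q : ZMod r) ^ (orderOf (q : ZMod r) / 2) = -1 := (mul_self_eq_one_iff.1 (by
      rw [← pow_add, show orderOf (q : ZMod r) / 2 + orderOf (q : ZMod r) / 2 = orderOf (q : ZMod r) by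
        omega, pow_orderOf_eq_one])).resolve_left (pow_ne_one_of_lt_orderOf (by omega) (by omega))
    rw [← hm]
    refine hσ.dual_minpoly_eq_of_odd h1 ?_
    rw [← orderOf_dvd_iff_pow_eq_one, hor, ← ZMod.natCast_eq_zero_iff]
    simp [h2]

theorem exists_typ_rf (g : GU n F q) (h : (r : F) ≠ 0) (h1 : g ^ r = 1) :
    ∃ k ν, (∀ φ ∈ ν, RF r φ) ∧ ν.map (dual σ) = ν ∧
      typ (toLin' g.1.1) = .replicate k (X - C 1) + ν := by
  obtain ⟨k, ν, h2, h3⟩ := Symp.exists_typ_RF (f := toLin' g.1.1) h (by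
    rw [← orderOf_dvd_iff_pow_eq_one, orderOf_toLin'_gu, orderOf_dvd_iff_pow_eq_one, h1])
  refine ⟨k, ν, h2, map_dual_right (μ := .replicate k (X - C 1)) (h3 ▸ hσ.typ_gu g) ?_, h3⟩
  rw [Multiset.map_replicate, dual_X_sub_C one_ne_zero]; simp

theorem exists_gu_rf {ν : Multiset F[X]} (hr : r ≠ 0) (h : ∀ φ ∈ ν, RF r φ) (hd : ν.map (dual σ) = ν)
    {k : ℕ} (hn : k + (ν.map natDegree).sum = n) :
    ∃ g : GU n F q, Blocks (toLin' g.1.1) (.replicate k (X - C 1) + ν) := by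
  refine hσ.exists_gu_blocks (fun P hP => (Multiset.mem_add.1 hP).elim (fun h1 => ?_)
    fun h1 => ⟨(h P h1).1, (h P h1).coeff_ne hr⟩) (by simp [hn, -map_one]) ?_
  · rw [Multiset.eq_of_mem_replicate h1]; exact ⟨monic_X_sub_C 1, by simp⟩
  · rw [Multiset.map_add, hd, Multiset.map_replicate, dual_X_sub_C one_ne_zero]; simp

end IsBar

end Cfsg.Lib.Unitary
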