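import Cfsg.Agent.Lib.Unitary.MaxSub2
import Cfsg.Agent.Lib.Asch.Descent
import Cfsg.Agent.Lib.Orth.Finite

/-!
# Maximality of subfield subgroups of `SU_n(q)`: the matrix form
-/

set_option autoImplicit false

namespace Cfsg.Lib.Unitary

open Module Matrix

variable {F : Type*} [Field F] {σ : F →+* F} {q : ℕ}

theorem exists_aut_fixing [Finite F] (F₀ : Subfield F) {r : ℕ}
    (hcard : Nat.card F = Nat.card F₀ ^ r) : ∃ τ : F ≃+* F, orderOf τ = r ∧
      (∀ a, τ a = a ↔ a ∈ F₀) ∧ ∀ a, τ a = a ^ Nat.card F₀ := by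
  have := Fintype.ofFinite F₀
  let φ := FiniteField.frobeniusAlgEquivOfAlgebraic F₀ F
  have h1 : finrank F₀ F = r := by
    rw [Module.natCard_eq_pow_finrank (K := F₀)] at hcard
    exact Nat.pow_right_injective Finite.one_lt_card hcard
  refine ⟨MulSemiringAction.toRingAut Gal(F/F₀) F φ, ?_, fun a => ⟨fun ha => ?_, fun ha =>
    φ.commutes ⟨a, ha⟩⟩, fun a => by rw [Nat.card_eq_fintype_card]; rfl⟩
  · rw [orderOf_injective _ (fun a b hab => AlgEquiv.ext fun x => DFunLike.congr_fun hab x),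
      FiniteField.orderOf_frobeniusAlgEquivOfAlgebraic, h1]
  · obtain ⟨b, rfl⟩ := (IsGalois.mem_range_algebraMap_iff_fixed (F := F₀) a).mpr fun f => by
      obtain ⟨k, rfl⟩ := (FiniteField.bijective_frobeniusAlgEquivOfAlgebraic_pow F₀ F).2 f
      exact (congrFun (AlgEquiv.coe_pow φ k) a).trans (Function.iterate_fixed (f := φ) ha k)
    exact b.2

variable {ι : Type} [Fintype ι] [DecidableEq ι]

/-- The semilinear map whose fixed points are the rational vectors. -/
noncomputable def ratT (τ : F ≃+* F) (P : GL ι F) : AddMonoid.End (ι → F) :=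
  AddMonoidHom.mk' (fun v => glEquiv ι F P (τ ∘ (glEquiv ι F P).symm v)) fun u v => by
    rw [← map_add, map_add (glEquiv ι F P).symm]
    congr 1
    ext i
    simp

variable {τ : F ≃+* F} {P : GL ι F}

theorem ratT_apply (v : ι → F) : ratT τ P (glEquiv ι F P v) = glEquiv ι F P (τ ∘ v) := by
  change glEquiv ι F P (τ ∘ (glEquiv ι F P).symm _) = _
  rw [LinearEquiv.symm_apply_apply]

theorem ratT_smul (s : F) (v : ι → F) : ratT τ P (s • v) = τ s • ratT τ P v := by
  obtain ⟨v, rfl⟩ := (glEquiv ι F P).surjective v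
  rw [← map_smul, ratT_apply, ratT_apply, ← map_smul]
  congr 1
  ext i
  simp

theorem ratT_pow : ratT τ P ^ orderOf τ = 1 := by
  have : ∀ k : ℕ, ∀ v, (ratT τ P ^ k) (glEquiv ι F P v) = glEquiv ι F P (⇑(τ ^ k) ∘ v) := by
    intro k
    induction k with
    | zero => intro v; rfl
    | succ k ih =>
      intro v
      rw [pow_succ', AddMonoid.End.coe_mul, Function.comp_apply, ih, ratT_apply, pow_succ']
      rfl
  refine AddMonoidHom.ext fun v => ?_
  obtain ⟨v, rfl⟩ := (glEquiv ι F P).surjective v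
  refine (this _ v).trans ?_
  rw [pow_orderOf_eq_one]
  rfl

theorem exists_of_ratT_fixed {v : ι → F} (hv : ratT τ P v = v) :
    ∃ u : ι → F, (∀ i, τ (u i) = u i) ∧ v = (P : Matrix ι ι F) *ᵥ u := by
  obtain ⟨v, rfl⟩ := (glEquiv ι F P).surjective v
  rw [ratT_apply] at hv
  exact ⟨v, fun i => congrFun ((glEquiv ι F P).injective hv) i, rfl⟩

theorem ratT_form {B : (ι → F) →ₛₗ[σ] (ι → F) →ₗ[F] F} {ε : F} (hε : ε * ε = 1)
    (hc : ∀ a, τ (σ a) = σ (τ a))
    (hB : ∀ u v : ι → F, (∀ i, τ (u i) = u i) → (∀ i, τ (v i) = v i) →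
      τ (B ((P : Matrix ι ι F) *ᵥ u) ((P : Matrix ι ι F) *ᵥ v)) =
        ε * B ((P : Matrix ι ι F) *ᵥ u) ((P : Matrix ι ι F) *ᵥ v)) (u v : ι → F) :
    B (ratT τ P u) (ratT τ P v) = ε * τ (B u v) := by
  obtain ⟨u, rfl⟩ := (glEquiv ι F P).surjective u
  obtain ⟨v, rfl⟩ := (glEquiv ι F P).surjective v
  have key : ∀ u v : ι → F, B (glEquiv ι F P u) (glEquiv ι F P v) = ∑ i, ∑ j, σ (u i) * v j *
      B ((P : Matrix ι ι F) *ᵥ Pi.single i 1) ((P : Matrix ι ι F) *ᵥ Pi.single j 1) := by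
    intro u v
    conv_lhs => rw [pi_eq_sum_univ' u, pi_eq_sum_univ' v]
    simp only [map_sum, map_smul, LinearMap.map_smulₛₗ, LinearMap.sum_apply, LinearMap.smul_apply,
      smul_eq_mul, glEquiv_apply, Finset.mul_sum]
    rw [Finset.sum_comm]
    refine Finset.sum_congr rfl fun i _ => Finset.sum_congr rfl fun j _ => by ring
  have h1 : ∀ i j, τ ((Pi.single i 1 : ι → F) j) = (Pi.single i 1 : ι → F) j := fun i j => by
    by_cases h : j = i <;> simp [h]
  rw [ratT_apply, ratT_apply, key, key]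
  simp only [map_sum, map_mul, Finset.mul_sum, hB _ _ (h1 _) (h1 _), hc, Function.comp_apply]
  refine Finset.sum_congr rfl fun i _ => Finset.sum_congr rfl fun j _ => ?_
  linear_combination (-σ (τ (u i)) * τ (v j) *
    B ((P : Matrix ι ι F) *ᵥ Pi.single i 1) ((P : Matrix ι ι F) *ᵥ Pi.single j 1)) * hε

theorem mem_subfieldSubgroup_iff_ratStab {F₀ : Subfield F} (hτ : ∀ a, τ a = a ↔ a ∈ F₀)
    (g : GL ι F) : g ∈ Geo.subfieldSubgroup F₀ P ↔ glEquiv ι F g ∈ ratStab F (ratT τ P) := by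
  rw [Asch.mem_subfieldSubgroup_iff]
  have hN : ∀ v, glEquiv ι F g (glEquiv ι F P v) =
      glEquiv ι F P (Asch.cj P⁻¹ (g : Matrix ι ι F) *ᵥ v) := fun v => by
    simp [Asch.cj_def, ← Matrix.mul_assoc]
  generalize Asch.cj P⁻¹ (g : Matrix ι ι F) = N at hN
  constructor
  · rintro ⟨c, hc, h⟩
    refine ⟨c / τ c, div_ne_zero hc ((map_ne_zero τ).mpr hc), fun v => ?_⟩
    obtain ⟨v, rfl⟩ := (glEquiv ι F P).surjective v
    rw [hN, ratT_apply, ratT_apply, hN, ← map_smul]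
    congr 1
    ext i
    simp only [Function.comp_apply, Matrix.mulVec, dotProduct, map_sum, map_mul, Pi.smul_apply,
      smul_eq_mul, Finset.mul_sum]
    refine Finset.sum_congr rfl fun j _ => ?_
    have := (hτ _).mpr (h i j)
    have h2 := (map_ne_zero τ).mpr hc
    rw [Matrix.smul_apply, smul_eq_mul, map_mul] at this
    field_simp
    linear_combination τ (v j) * this
  · rintro ⟨d, -, h⟩
    have h1 : ∀ i j, τ (N i j) = d * N i j := fun i j => by
      have := h (glEquiv ι F P (Pi.single j 1))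
      rw [hN, ratT_apply, ratT_apply, hN, ← map_smul,
        show τ ∘ (Pi.single j 1 : ι → F) = Pi.single j 1 by
          ext k; by_cases h : k = j <;> simp [h]] at this
      simpa using congrFun ((glEquiv ι F P).injective this) i
    by_cases h0 : N = 0
    · exact ⟨1, one_ne_zero, fun i j => by simp [h0]⟩
    obtain ⟨i₀, j₀, h2⟩ : ∃ i j, N i j ≠ 0 := by
      by_contra hcon
      push Not at hcon
      exact h0 (Matrix.ext hcon)
    refine ⟨(N i₀ j₀)⁻¹, inv_ne_zero h2, fun i j => (hτ _).mp ?_⟩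
    have h3 : d ≠ 0 := fun h0 => h2 (by simpa [h0] using h1 i₀ j₀)
    rw [Matrix.smul_apply, smul_eq_mul, map_mul, map_inv₀, h1, h1]
    field_simp

variable {n : ℕ} {P : GL (Fin n) F} {F₀ : Subfield F} (hσ : IsBar q σ) (hn : 13 ≤ n)
  (hτ : ∀ a, τ a = a ↔ a ∈ F₀)
include hσ hτ

theorem IsBar.ratT_form_std {ζ ε : F} (hζ0 : ζ ≠ 0) (hζ : τ ζ = ε * ζ) (hε : ε * ε = 1)
    (hP : Geo.IsFormRationalStructure (hermForm n F q) F₀ ζ P) (u v : Fin n → F) :
    stdForm σ (Fin n) (ratT τ P u) (ratT τ P v) = ε * τ (stdForm σ (Fin n) u v) := by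
  refine ratT_form hε (hσ.comm τ) (fun u v hu hv => ?_) u v
  have := (hτ _).mpr (hP v u (fun i => (hτ _).mp (hv i)) fun i => (hτ _).mp (hu i))
  rw [hσ.hermForm_eq, map_mul, hζ] at this
  refine mul_left_cancel₀ hζ0 ?_
  linear_combination ε * this - ζ * τ (stdForm σ (Fin n) ((P : Matrix _ _ F) *ᵥ u)
    ((P : Matrix _ _ F) *ᵥ v)) * hε

include hn

theorem IsBar.isMaximalIn_subfield {ζ ε : F} (R : RatStr (stdForm σ (Fin n)) τ (ratT τ P) ζ ε)
    (h : orderOf τ = 2 ∨ ∃ c, c ≠ 0 ∧ c + σ c = 0 ∧ τ c = ε * c) :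
    Geo.IsMaximalIn (GU n F q ⊓ Geo.specialLinear (Fin n) F)
      (Geo.subfieldSubgroup F₀ P ⊓ (GU n F q ⊓ Geo.specialLinear (Fin n) F)) := by
  have := hσ.finite
  have hn' : 13 ≤ finrank F (Fin n → F) := by simpa
  refine hσ.isMaximalIn_of (fun g _ => mem_subfieldSubgroup_iff_ratStab hτ g)
    (R.not_SUG_le hσ.isHerm hn') fun K hH hK => ?_
  rcases h with h | ⟨c, h0, h1, h2⟩
  · exact R.max_two hσ.isHerm hn' hH hK hσ h
  · exact R.max_transv hσ.isHerm hn' hH hK hσ h0 h1 h2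

theorem IsBar.isMaximalIn_subfield_odd (hr : (orderOf τ).Prime) (hodd : Odd (orderOf τ))
    (hP : Geo.IsFormRationalStructure (hermForm n F q) F₀ 1 P) :
    Geo.IsMaximalIn (GU n F q ⊓ Geo.specialLinear (Fin n) F)
      (Geo.subfieldSubgroup F₀ P ⊓ (GU n F q ⊓ Geo.specialLinear (Fin n) F)) := by
  have := hσ.finite
  have h := hσ.isHerm (ι := Fin n)
  have hf := hσ.ratT_form_std hτ (ε := 1) one_ne_zero (by simp) (by simp) hP
  have hf' : ∀ x y, ratT τ P x = x → ratT τ P y = y →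
      τ (stdForm σ (Fin n) x y) = stdForm σ (Fin n) x y := fun x y hx hy => by
    conv_rhs => rw [← hx, ← hy, hf, one_mul]
  refine hσ.isMaximalIn_subfield hn hτ (ζ := 1) (ε := 1)
    ⟨ratT_smul, ratT_pow, hf, hσ.comm τ, Or.inl rfl, one_ne_zero, by simp, fun x hx => ?_,
      fun x y z hx hy hz => ?_, hr⟩ (Or.inr ?_)
  · obtain ⟨a, h1, h2⟩ := hσ.exists_fixed_trace_ne hodd
    have h3 : σ a + a ≠ 0 := by rwa [add_comm]
    refine ⟨-stdForm σ (Fin n) x x * a / (a + σ a), by simp [hf' x x hx hx, h1, hσ.comm τ], ?_⟩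
    simp only [map_div₀, map_mul, map_neg, map_add, h.self_fixed, h.invol]
    field_simp
    ring
  · generalize stdForm σ (Fin n) = B at h hf'
    by_cases h0 : B x x = 0
    · exact ⟨1, 0, 0, by simp, by simp, by simp, by simp, by simpa⟩
    obtain ⟨t, h1, h2⟩ := hσ.exists_fixed_norm_eq hodd
      (μ := (B x y * B y x - B x x * B y y) / (B x x * B x x))
      (by simp [h.symm, mul_comm]) (by simp [hf', hx, hy])
    refine ⟨t - B x y / B x x, 1, 0, by simp [hf', hx, hy, h1], by simp, by simp, by simp, ?_⟩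
    simp only [zero_smul, add_zero, one_smul, map_add, map_smul, LinearMap.map_smulₛₗ,
      LinearMap.add_apply, LinearMap.smul_apply, smul_eq_mul, map_sub, map_div₀, h.symm]
    field_simp at h2 ⊢
    linear_combination h2
  · obtain ⟨δ, h0, h1⟩ := hσ.exists_skew
    refine ⟨∏ i ∈ Finset.range (orderOf τ), (τ ^ i) δ, Finset.prod_ne_zero_iff.mpr fun i _ =>
      (map_ne_zero _).mpr h0, ?_, by rw [apply_prod_pow τ (pow_orderOf_eq_one τ), one_mul]⟩
    simp only [map_prod, ← hσ.comm, h1, map_neg]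
    rw [Finset.prod_neg, Finset.card_range, hodd.neg_one_pow]
    ring

variable (h2 : orderOf τ = 2) (hτσ : ∀ a, τ a = σ a)
include h2 hτσ

theorem IsBar.isMaximalIn_subfield_orth (hodd : Odd q)
    (hP : Geo.IsFormRationalStructure (hermForm n F q) F₀ 1 P) :
    Geo.IsMaximalIn (GU n F q ⊓ Geo.specialLinear (Fin n) F)
      (Geo.subfieldSubgroup F₀ P ⊓ (GU n F q ⊓ Geo.specialLinear (Fin n) F)) := by
  have := hσ.finite
  have h := hσ.isHerm (ι := Fin n)
  have hf := hσ.ratT_form_std hτ (ε := 1) one_ne_zero (by simp) (by simp) hP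
  have hf' : ∀ x y, ratT τ P x = x → ratT τ P y = y →
      τ (stdForm σ (Fin n) x y) = stdForm σ (Fin n) x y := fun x y hx hy => by
    conv_rhs => rw [← hx, ← hy, hf, one_mul]
  refine hσ.isMaximalIn_subfield hn hτ (ζ := 1) (ε := 1)
    ⟨ratT_smul, ratT_pow, hf, hσ.comm τ, Or.inl rfl, one_ne_zero, by simp, fun x hx => ?_,
      fun x y z hx hy hz => ?_, h2 ▸ Nat.prime_two⟩ (Or.inl h2)
  · have h3 : (2 : F) ≠ 0 := fun h0 => by
      obtain ⟨k, rfl⟩ := hodd
      simpa [h0] using hσ.cast_q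
    refine ⟨-stdForm σ (Fin n) x x / 2, by simp [hf' x x hx hx, map_ofNat], ?_⟩
    simp only [map_div₀, map_neg, h.self_fixed, map_ofNat]
    field_simp
    ring
  · generalize stdForm σ (Fin n) = B at h hf'
    have h3 : ∀ i, ratT τ P (![x, y, z] i) = ![x, y, z] i := fun i => by
      fin_cases i <;> simpa
    obtain ⟨v, hv0, hv⟩ := Orth.exists_singular (Matrix.toQuadraticForm'
      (Matrix.of fun i j : Fin 3 => (⟨B (![x, y, z] i) (![x, y, z] j),
        (hτ _).mp (hf' _ _ (h3 i) (h3 j))⟩ : F₀))) (by simp)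
    have h4 : ∀ i, τ (v i) = v i := fun i => (hτ _).mpr (v i).2
    refine ⟨v 0, v 1, v 2, h4 0, h4 1, h4 2, ?_, ?_⟩
    · by_contra hcon
      push Not at hcon
      exact hv0 (funext fun i => Subtype.ext (by fin_cases i <;> simp [hcon]))
    · have h5 := congrArg (Subtype.val) hv
      simp [Matrix.toQuadraticForm', Matrix.toLinearMap₂'_apply, Fin.sum_univ_three] at h5
      simp only [map_add, map_smul, LinearMap.map_smulₛₗ, LinearMap.add_apply,
        LinearMap.smul_apply, smul_eq_mul, ← hτσ, h4]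
      linear_combination h5

theorem IsBar.isMaximalIn_subfield_symp {ζ : F} (hζ0 : ζ ≠ 0) (hζ : ζ + σ ζ = 0)
    (hP : Geo.IsFormRationalStructure (hermForm n F q) F₀ ζ P)
    (halt : ∀ u : Fin n → F, (∀ i, u i ∈ F₀) →
      hermForm n F q ((P : Matrix _ _ F) *ᵥ u) ((P : Matrix _ _ F) *ᵥ u) = 0) :
    Geo.IsMaximalIn (GU n F q ⊓ Geo.specialLinear (Fin n) F)
      (Geo.subfieldSubgroup F₀ P ⊓ (GU n F q ⊓ Geo.specialLinear (Fin n) F)) := by
  have hζ' : τ ζ = -1 * ζ := by rw [hτσ]; linear_combination hζ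
  have h0 : ∀ x, ratT τ P x = x → stdForm σ (Fin n) x x = 0 := fun x hx => by
    obtain ⟨u, hu, rfl⟩ := exists_of_ratT_fixed hx
    rw [← hσ.hermForm_eq, halt u fun i => (hτ _).mp (hu i)]
  exact hσ.isMaximalIn_subfield hn hτ (ζ := ζ) (ε := -1)
    ⟨ratT_smul, ratT_pow, hσ.ratT_form_std hτ hζ0 hζ' (by simp) hP, hσ.comm τ, Or.inr rfl, hζ0,
      hζ', fun x hx => ⟨0, by simp, by simp [h0 x hx]⟩,
      fun x y z hx hy hz => ⟨1, 0, 0, by simp, by simp, by simp, by simp, by simp [h0 x hx]⟩,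
      h2 ▸ Nat.prime_two⟩ (Or.inl h2)

end Cfsg.Lib.Unitary
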