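import Cfsg.Agent.Lib.Unitary.MaxGeo

/-!
# Maximality in `SU` of the stabiliser of a pair of complementary totally isotropic subspaces
-/

set_option autoImplicit false

namespace Cfsg.Lib.Unitary

open Module

variable {F V : Type*} [Field F] [AddCommGroup V] [Module F V] {σ : F →+* F}
  {B : V →ₛₗ[σ] V →ₗ[F] F} {q : ℕ}

/-- The linear automorphisms permuting a family of subspaces. -/
def decStab {ι : Type*} (D : ι → Submodule F V) : Subgroup (V ≃ₗ[F] V) where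
  carrier := {g | ∃ π : Equiv.Perm ι, ∀ i, (D i).map (g : V →ₗ[F] V) = D (π i)}
  mul_mem' := by
    rintro a b ⟨π, hπ⟩ ⟨ρ, hρ⟩
    exact ⟨ρ.trans π, fun i => by
      rw [LinearEquiv.coe_toLinearMap_mul, Module.End.mul_eq_comp, Submodule.map_comp, hρ, hπ]; rfl⟩
  one_mem' := ⟨1, fun i => Submodule.map_id _⟩
  inv_mem' := by
    rintro a ⟨π, hπ⟩
    refine ⟨π.symm, fun i => ?_⟩
    conv_lhs => rw [← π.apply_symm_apply i, ← hπ, ← Submodule.map_comp]
    convert Submodule.map_id _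
    ext; simp

theorem map_eq_of_le [FiniteDimensional F V] {W W' : Submodule F V} {g : V ≃ₗ[F] V}
    (h : ∀ v ∈ W, g v ∈ W') (hd : finrank F W = finrank F W') : W.map (g : V →ₗ[F] V) = W' :=
  Submodule.eq_of_le_of_finrank_eq (Submodule.map_le_iff_le_comap.mpr h)
    ((LinearEquiv.finrank_map_eq g W).trans hd)

theorem mem_decStab_of_perm [FiniteDimensional F V] {ι : Type*} {D : ι → Submodule F V} {k : ℕ}
    (hk : ∀ i, finrank F (D i) = k) {g : V ≃ₗ[F] V} (π : Equiv.Perm ι)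
    (h : ∀ i, ∀ v ∈ D i, g v ∈ D (π i)) : g ∈ decStab D :=
  ⟨π, fun i => map_eq_of_le (h i) ((hk _).trans (hk _).symm)⟩

theorem mem_decStab_of_forall [FiniteDimensional F V] {ι : Type*} {D : ι → Submodule F V}
    {g : V ≃ₗ[F] V} (h : ∀ i, ∀ v ∈ D i, g v ∈ D i) : g ∈ decStab D :=
  ⟨1, fun i => map_eq_of_le (h i) rfl⟩

theorem mem_decompositionStabilizer_iff {ι : Type} [Fintype ι] [DecidableEq ι] {t : ℕ}
    {D : Fin t → Submodule F (ι → F)} (g : GL ι F) :
    g ∈ Geo.decompositionStabilizer D ↔ glEquiv ι F g ∈ decStab D := Iff.rfl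

theorem finrank_le_finrank_inf_perp [FiniteDimensional F V] (h : IsHerm σ B) (W Z : Submodule F V) :
    finrank F W ≤ finrank F ↥(W ⊓ perp B Z) + finrank F Z := by
  have h1 := Submodule.finrank_sup_add_finrank_inf_eq W (perp B Z)
  have h2 := h.finrank_add_finrank_perp Z
  have h3 := Submodule.finrank_le (W ⊔ perp B Z)
  omega

theorem exists_notMem_of_lt [FiniteDimensional F V] {W Z : Submodule F V}
    (h : finrank F Z < finrank F W) : ∃ w ∈ W, w ∉ Z :=
  SetLike.not_le_iff_exists.mp fun hle => (Submodule.finrank_mono hle).not_gt h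

theorem finrank_span_singleton_le (a : V) : finrank F (F ∙ a) ≤ 1 := by
  simpa using finrank_span_le_card (R := F) ({a} : Set V)

theorem finrank_span_triple_le (a b c : V) : finrank F (Submodule.span F {a, b, c}) ≤ 3 := by
  classical
  have := finrank_span_finset_le_card (R := F) ({a, b, c} : Finset V)
  rw [Set.finrank, Finset.coe_insert, Finset.coe_pair] at this
  exact this.trans Finset.card_le_three

theorem mem_span_of_mem_pairs {x a b b' : V} (hb : b' ∉ Submodule.span F {a, b})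
    (h1 : x ∈ Submodule.span F {a, b}) (h2 : x ∈ Submodule.span F {a, b'}) : x ∈ F ∙ a := by
  obtain ⟨s, t, rfl⟩ := Submodule.mem_span_pair.mp h2
  by_cases ht : t = 0
  · simpa [ht] using Submodule.smul_mem _ s (Submodule.mem_span_singleton_self a)
  · rw [Submodule.add_mem_iff_right _ (Submodule.smul_mem _ _ (Submodule.subset_span (by simp))),
      Submodule.smul_mem_iff _ ht] at h1
    exact absurd h1 hb

/-- A pair of complementary totally isotropic subspaces and a subgroup containing its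
stabiliser. -/
structure PairStr (B : V →ₛₗ[σ] V →ₗ[F] F) (W₁ W₂ : Submodule F V) (K : Subgroup (V ≃ₗ[F] V)) :
    Prop where
  compl : IsCompl W₁ W₂
  iso₁ : W₁ ≤ perp B W₁
  iso₂ : W₂ ≤ perp B W₂
  dim₁ : 5 ≤ finrank F W₁
  dim₂ : 5 ≤ finrank F W₂
  le : K ≤ SUG B
  mem : ∀ g ∈ SUG B, (∀ v ∈ W₁, g v ∈ W₁) → (∀ v ∈ W₂, g v ∈ W₂) → g ∈ K
  swap : ∃ s ∈ K, (∀ v ∈ W₁, s v ∈ W₂) ∧ ∀ v ∈ W₂, s v ∈ W₁

theorem IsHerm.exists_dual [FiniteDimensional F V] (h : IsHerm σ B) {W₁ W₂ Z : Submodule F V}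
    (hc : IsCompl W₁ W₂) (h1 : W₁ ≤ perp B W₁) (hZ : Z ≤ W₁) {w : V} (hw : w ∈ W₁) (hwZ : w ∉ Z) :
    ∃ b ∈ W₂, b ∈ perp B Z ∧ B w b = 1 := by
  obtain ⟨y, hy, h2⟩ : ∃ y ∈ perp B Z, B w y ≠ 0 := by
    by_contra hcon
    push Not at hcon
    exact hwZ (h.perp_perp Z ▸ fun y hy => h.eq_zero_comm.mp (hcon y hy))
  obtain ⟨⟨a, ha⟩, ⟨b, hb⟩, rfl⟩ := exists_add_of_isCompl hc y
  rw [map_add, h1 ha w hw, zero_add] at h2
  refine ⟨(B w b)⁻¹ • b, W₂.smul_mem _ hb, Submodule.smul_mem _ _ fun z hz => ?_, by simp [h2]⟩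
  simpa [show B z a = 0 from h1 ha z (hZ hz)] using mem_perp.mp hy z hz

namespace PairStr

variable {W₁ W₂ : Submodule F V} {K : Subgroup (V ≃ₗ[F] V)} (S : PairStr B W₁ W₂ K)
include S

theorem symm : PairStr B W₂ W₁ K :=
  ⟨S.compl.symm, S.iso₂, S.iso₁, S.dim₂, S.dim₁, S.le, fun g h1 h2 h3 => S.mem g h1 h3 h2,
    by obtain ⟨s, h1, h2, h3⟩ := S.swap; exact ⟨s, h1, h3, h2⟩⟩

theorem orth₁ {u v : V} (hu : u ∈ W₁) (hv : v ∈ W₁) : B u v = 0 := S.iso₁ hv u hu

theorem orth₂ {u v : V} (hu : u ∈ W₂) (hv : v ∈ W₂) : B u v = 0 := S.iso₂ hv u hu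

variable [FiniteDimensional F V] (h : IsHerm σ B)
include h

theorem exists_eich {a b : V} (ha : a ∈ W₁) (hb : b ∈ W₂) (hab : B a b = 0) :
    ∃ g ∈ K, IsEich B a b 0 g := by
  refine ⟨eichler B a b 0 (S.orth₁ ha ha) hab (h.eq_zero_comm.mp hab), S.mem _
    (h.eichler_mem_SUG _ _ _ (by simp [S.orth₂ hb hb])) (fun v hv => ?_) fun v hv => ?_,
    isEich_eichler _ _ _ _ _ _⟩
  · simpa [eichler_apply, S.orth₁ ha hv] using sub_mem hv (W₁.smul_mem _ ha)
  · simpa [eichler_apply, S.orth₂ hb hv] using add_mem hv (W₂.smul_mem _ hb)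

theorem mem_AE {e b : V} (he : e ∈ W₁) (hb : b ∈ W₂) (heb : B e b = 0) :
    b ∈ h.AE K (S.orth₁ he he) := by
  obtain ⟨g, hg, e1⟩ := S.exists_eich h he hb heb
  exact ⟨heb, g, hg, 0, e1⟩

variable (hσ : IsBar q σ) (hK : ¬ SUG B ≤ K)
include hσ hK

theorem mem_sup_of_mem_AE {e w : V} (he : e ∈ W₁) (he0 : e ≠ 0)
    (hw : w ∈ h.AE K (S.orth₁ he he)) : w ∈ W₂ ⊔ F ∙ e := by
  have hKU := S.le.trans SUG_le_UG
  obtain ⟨⟨w₁, h1⟩, ⟨w₂, h2⟩, rfl⟩ := exists_add_of_isCompl S.compl w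
  by_contra hne
  have h3 : w₁ ∉ F ∙ e := fun hm => hne (add_mem (Submodule.mem_sup_right hm)
    (Submodule.mem_sup_left h2))
  have h4 : w₁ ∈ h.AE K (S.orth₁ he he) := by
    simpa using sub_mem hw (S.mem_AE h he h2 (by simpa [S.orth₁ he h1] using hw.1))
  have key : ∀ a ∈ W₁, a ∉ Submodule.span F {e, w₁} → a ∈ h.AE K (S.orth₁ he he) := by
    intro a ha h5
    obtain ⟨b, hb, h6, h7⟩ := h.exists_dual S.compl S.iso₁ (Z := Submodule.span F {e, a})
      (Submodule.span_le.mpr (by simp [Set.insert_subset_iff, he, ha])) h1 fun hm => by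
        obtain ⟨s, t, rfl⟩ := Submodule.mem_span_pair.mp hm
        by_cases ht : t = 0
        · exact h3 (by simpa [ht] using Submodule.smul_mem _ s (Submodule.mem_span_singleton_self e))
        · exact h5 (Submodule.mem_span_pair.mpr ⟨-(s / t), t⁻¹, by
            match_scalars <;> field_simp <;> ring⟩)
    rw [mem_perp_span] at h6
    obtain ⟨g, hg, e1⟩ := S.exists_eich h ha hb (h6 a (by simp))
    have := h.sub_mem_AE _ hKU hg (by
      rw [e1, S.orth₁ ha he, h.eq_zero_comm.mp (h6 e (by simp))]; simp) h4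
    rw [e1, S.orth₁ ha h1, ← h.symm, h7] at this
    simpa using this
  have h5 : ∀ a ∈ W₁, a ∈ h.AE K (S.orth₁ he he) := fun a ha => by
    by_cases h6 : a ∈ Submodule.span F {e, w₁}
    swap
    · exact key a ha h6
    obtain ⟨a', h7, h8⟩ := exists_notMem_of_lt (W := W₁) (Z := Submodule.span F {e, w₁})
      (by have := finrank_span_pair_le (F := F) e w₁; have := S.dim₁; omega)
    simpa using sub_mem (key (a + a') (add_mem ha h7)
      (by rwa [Submodule.add_mem_iff_right _ h6])) (key a' h7 h8)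
  have hn : 4 ≤ finrank F V := (S.dim₁.trans (Submodule.finrank_le _)).trans' (by omega)
  have hQ := h.QE_le_of_AE (S.orth₁ he he) (by omega) hKU he0 fun w hw => by
    obtain ⟨⟨w₁, h1⟩, ⟨w₂, h2⟩, rfl⟩ := exists_add_of_isCompl S.compl w
    exact add_mem (h5 _ h1) (S.mem_AE h he h2 (by simpa [S.orth₁ he h1] using hw))
  obtain ⟨s, hs, hs1, -⟩ := S.swap
  by_cases h6 : B e (s e) = 0
  swap
  · exact hK (h.SUG_le_of_QE (S.orth₁ he he) hσ hn hKU hQ hs h6)
  obtain ⟨b, hb, -, h7⟩ := h.exists_dual S.compl S.iso₁ (Z := ⊥) bot_le he (by simpa)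
  obtain ⟨a, ha, h8, h9⟩ := h.exists_dual S.compl.symm S.iso₂ (Z := F ∙ b)
    ((Submodule.span_singleton_le_iff_mem _ _).mpr hb) (hs1 e he) fun hm => by
      obtain ⟨t, ht⟩ := Submodule.mem_span_singleton.mp hm
      rw [← ht, map_smul, h7, smul_eq_mul, mul_one] at h6
      exact he0 (by simpa [h6] using ht.symm)
  obtain ⟨g, hg, e1⟩ := S.exists_eich h ha hb (h.eq_zero_comm.mp (mem_perp_singleton.mp h8))
  refine hK (h.SUG_le_of_QE (S.orth₁ he he) hσ hn hKU hQ (mul_mem hg hs) ?_)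
  rw [LinearEquiv.mul_apply, e1, ← h.symm (s e) a, h9]
  simp [h6, h7, S.orth₁ he ha]

theorem apply_mem₂ {y : V ≃ₗ[F] V} (hy : y ∈ K) {u u' : V}
    (hu : ∀ v, B u v = 0 → B u' v = 0 → y v = v) {b : V} (hb : b ∈ W₂) : y b ∈ W₂ := by
  have h1 := finrank_le_finrank_inf_perp h W₁ (Submodule.span F {u, u', b})
  have h2 := finrank_span_triple_le (F := F) u u' b
  have := S.dim₁
  have key : ∀ e ∈ W₁ ⊓ perp B (Submodule.span F {u, u', b}), e ≠ 0 → y b ∈ W₂ ⊔ F ∙ e :=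
    fun e he he0 => S.mem_sup_of_mem_AE h hσ hK he.1 he0 (h.apply_mem_AE _ (S.le.trans SUG_le_UG) hy
      (hu e (mem_perp_span.mp he.2 u (by simp)) (mem_perp_span.mp he.2 u' (by simp)))
      (S.mem_AE h he.1 hb (h.eq_zero_comm.mp (mem_perp_span.mp he.2 b (by simp)))))
  obtain ⟨e, he, he0⟩ := exists_notMem_of_lt (W := W₁ ⊓ perp B (Submodule.span F {u, u', b}))
    (Z := ⊥) (by simp only [finrank_bot]; omega)
  obtain ⟨e', he', he0'⟩ := exists_notMem_of_lt (W := W₁ ⊓ perp B (Submodule.span F {u, u', b}))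
    (Z := F ∙ e) (by have := finrank_span_singleton_le (F := F) e; omega)
  obtain ⟨x, hx, _, hz, e1⟩ := Submodule.mem_sup.mp (key e he he0)
  obtain ⟨x', hx', _, hz', e2⟩ := Submodule.mem_sup.mp (key e' he' (by rintro rfl; simp at he0'))
  obtain ⟨s, rfl⟩ := Submodule.mem_span_singleton.mp hz
  obtain ⟨t, rfl⟩ := Submodule.mem_span_singleton.mp hz'
  have h3 : t • e' - s • e = 0 := Submodule.disjoint_def.mp S.compl.disjoint _
    (sub_mem (W₁.smul_mem _ he'.1) (W₁.smul_mem _ he.1))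
    (by rw [show t • e' - s • e = x - x' by linear_combination (norm := module) e2 - e1]
        exact sub_mem hx hx')
  have h4 : t = 0 := by
    by_contra ht
    exact he0' ((Submodule.smul_mem_iff _ ht).mp (sub_eq_zero.mp h3 ▸ hz))
  simpa [← e2, h4] using hx'

theorem apply_mem_or {g : V ≃ₗ[F] V} (hg : g ∈ K) {a : V} (ha : a ∈ W₁) :
    g a ∈ W₁ ∨ g a ∈ W₂ := by
  have hgU := (S.le hg).1
  obtain ⟨⟨a₁, h1⟩, ⟨a₂, h2⟩, e0⟩ := exists_add_of_isCompl S.compl (g a)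
  have key : ∀ b ∈ W₂, b ≠ 0 → B a b = 0 → a₁ ∈ Submodule.span F {g a, g b} := by
    intro b hb hb0 hab
    obtain ⟨x, hx, e1⟩ := S.exists_eich h ha hb hab
    have hy : ∀ v, (g * x * g⁻¹) v = v + B (g a) v • g b - B (g b) v • g a := fun v => by
      rw [LinearEquiv.mul_apply, LinearEquiv.mul_apply, e1, ← UG_apply_left hgU,
        ← UG_apply_left hgU]
      simp
    have hyK := mul_mem (mul_mem hg hx) (inv_mem hg)
    have hy' : ∀ v, B (g a) v = 0 → B (g b) v = 0 → (g * x * g⁻¹) v = v := fun v h1 h2 => by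
      simp [hy, h1, h2]
    obtain ⟨v, hv, -, hv2⟩ := h.exists_dual S.compl.symm S.iso₂ (Z := ⊥) bot_le hb (by simpa)
    obtain ⟨⟨v₁, k1⟩, ⟨v₂, k2⟩, e2⟩ := exists_add_of_isCompl S.compl (g v)
    have k3 := sub_mem (S.symm.apply_mem₂ h hσ hK hyK hy' k1) k1
    have k4 := sub_mem (S.apply_mem₂ h hσ hK hyK hy' k2) k2
    have k5 := hy (g v)
    rw [hgU, hgU, S.orth₁ ha hv, hv2, e2, map_add] at k5
    have : (g * x * g⁻¹) v₁ - v₁ + a₁ = 0 := Submodule.disjoint_def.mp S.compl.disjoint _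
      (add_mem k3 h1) (by
        rw [show (g * x * g⁻¹) v₁ - v₁ + a₁ = -((g * x * g⁻¹) v₂ - v₂) - a₂ by
          linear_combination (norm := module) k5 - e0]
        exact sub_mem (neg_mem k4) h2)
    exact Submodule.mem_span_pair.mpr ⟨B (g b) v₁, -B (g a) v₁, by
      linear_combination (norm := module) hy v₁ - this⟩
  have h3 := finrank_le_finrank_inf_perp h W₂ (F ∙ a)
  have h4 := finrank_span_singleton_le (F := F) a
  have := S.dim₂
  obtain ⟨b, hb, hb0⟩ := exists_notMem_of_lt (W := W₂ ⊓ perp B (F ∙ a))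
    (Z := ⊥) (by simp only [finrank_bot]; omega)
  obtain ⟨b', hb', hb0'⟩ := exists_notMem_of_lt (W := W₂ ⊓ perp B (F ∙ a))
    (Z := Submodule.span F {a, b}) (by have := finrank_span_pair_le (F := F) a b; omega)
  obtain ⟨s, hs⟩ := Submodule.mem_span_singleton.mp (mem_span_of_mem_pairs (b := g b) (b' := g b')
    (fun hm => hb0' (by
      obtain ⟨s, t, e⟩ := Submodule.mem_span_pair.mp hm
      exact Submodule.mem_span_pair.mpr ⟨s, t, g.injective (by simpa using e)⟩))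
    (key b hb.1 hb0 (mem_perp_singleton.mp hb.2))
    (key b' hb'.1 (by rintro rfl; simp at hb0') (mem_perp_singleton.mp hb'.2)))
  by_cases h0 : s = 0
  · rw [h0, zero_smul] at hs
    subst hs
    right
    simpa [e0]
  · exact Or.inl ((Submodule.smul_mem_iff _ h0).mp (hs ▸ h1))

theorem le_or_le {g : V ≃ₗ[F] V} (hg : g ∈ K) :
    (∀ a ∈ W₁, g a ∈ W₁) ∨ ∀ a ∈ W₁, g a ∈ W₂ := by
  by_contra hcon
  push Not at hcon
  obtain ⟨⟨a, h1, h2⟩, b, h3, h4⟩ := hcon
  have h5 := (S.apply_mem_or h hσ hK hg h1).resolve_left h2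
  have h6 := (S.apply_mem_or h hσ hK hg h3).resolve_right h4
  rcases S.apply_mem_or h hσ hK hg (add_mem h1 h3) with h7 | h7 <;> rw [map_add] at h7
  · exact h2 ((Submodule.add_mem_iff_left _ h6).mp h7)
  · exact h4 ((Submodule.add_mem_iff_right _ h5).mp h7)

end PairStr

theorem IsHerm.exists_swap_pair [FiniteDimensional F V] (h : IsHerm σ B) (hσ : IsBar q σ)
    {W₁ W₂ : Submodule F V} (hc : IsCompl W₁ W₂) (h1 : W₁ ≤ perp B W₁) (h2 : W₂ ≤ perp B W₂)
    {k : ℕ} (hk : finrank F W₁ = k + 1) (hk' : finrank F W₂ = k + 1) :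
    ∃ s ∈ SUG B, (∀ v ∈ W₁, s v ∈ W₂) ∧ ∀ v ∈ W₂, s v ∈ W₁ := by
  have := hσ.finite
  obtain ⟨x, hx, hxW⟩ := IsHerm.exists_family_span W₁ hk
  have hx' : ∀ i, x i ∈ W₁ := fun i => hxW ▸ Submodule.subset_span ⟨i, rfl⟩
  have : ∀ j, ∃ y ∈ W₂, ∀ i, B (x i) y = if i = j then 1 else 0 := fun j => by
    obtain ⟨y, hy⟩ := h.exists_apply_eq hx fun i => if i = j then 1 else 0
    obtain ⟨⟨a, ha⟩, ⟨b, hb⟩, rfl⟩ := exists_add_of_isCompl hc y
    exact ⟨b, hb, fun i => by simpa [show B (x i) a = 0 from h1 ha _ (hx' i)] using hy i⟩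
  choose y hy hxy using this
  have hyx : ∀ i j, B (y i) (x j) = if i = j then 1 else 0 := fun i j => by
    rw [← h.symm, hxy]; by_cases h : i = j <;> simp [h, eq_comm]
  have hyl : LinearIndependent F y := Fintype.linearIndependent_iff.mpr fun c hc i => by
    simpa [hxy] using congrArg (B (x i)) hc
  have hyW : Submodule.span F (Set.range y) = W₂ := Submodule.eq_of_le_of_finrank_eq
    (Submodule.span_le.mpr (Set.range_subset_iff.mpr hy))
    (by rw [finrank_span_eq_card hyl, hk', Fintype.card_fin])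
  obtain ⟨g, hg, e1⟩ := h.witt_family (x := Sum.elim x y) (y := Sum.elim y x)
    (hx.sum_type hyl (by rw [hxW, hyW]; exact hc.disjoint))
    (hyl.sum_type hx (by rw [hxW, hyW]; exact hc.disjoint.symm)) (by
      rintro (i | i) (j | j)
      · exact (h1 (hx' j) _ (hx' i)).trans (h2 (hy j) _ (hy i)).symm
      · simp [hxy, hyx]
      · simp [hxy, hyx]
      · exact (h2 (hy j) _ (hy i)).trans (h1 (hx' j) _ (hx' i)).symm)
  obtain ⟨a, ha0, ha⟩ := hσ.exists_div_eq (h.det_mul_conj hg)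
  have ha' := (map_ne_zero σ).mpr ha0
  have hef : B (x 0) (y 0) = 1 := by simp [hxy]
  have hfe : B (y 0) (x 0) = 1 := by simp [hyx]
  refine ⟨g * tor B (x 0) (y 0) hef hfe (Units.mk0 a ha0) (Units.mk0 (σ a)⁻¹ (inv_ne_zero ha')),
    mem_SUG.mpr ⟨mul_mem hg (h.tor_mem_UG _ _ (h1 (hx' 0) _ (hx' 0)) (h2 (hy 0) _ (hy 0))
      (by simp [ha'])), Units.ext ?_⟩, fun v hv => ?_, fun v hv => ?_⟩
  · rw [map_mul, det_tor]
    simp only [Units.val_mul, LinearEquiv.coe_det, Units.val_mk0, Units.val_one]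
    field_simp
    exact ha.symm
  · refine (show W₁ ≤ W₂.comap g.toLinearMap from hxW ▸ Submodule.span_le.mpr
      (Set.range_subset_iff.mpr fun i => (e1 (.inl i)).symm.subst (motive := (· ∈ W₂)) (hy i))) ?_
    simpa [tor_apply hef hfe (h2 (hy 0) _ (hy 0)), show B (x 0) v = 0 from h1 hv _ (hx' 0)]
      using add_mem hv (W₁.smul_mem _ (hx' 0))
  · refine (show W₂ ≤ W₁.comap g.toLinearMap from hyW ▸ Submodule.span_le.mpr
      (Set.range_subset_iff.mpr fun i => (e1 (.inr i)).symm.subst (motive := (· ∈ W₁)) (hx' i))) ?_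
    simpa [tor_apply hef hfe (h2 (hy 0) _ (hy 0)), show B (y 0) v = 0 from h2 hv _ (hy 0)]
      using add_mem hv (W₂.smul_mem _ (hy 0))

/-- `SU` does not permute a family of proper subspaces covering no hyperbolic line. -/
theorem IsHerm.not_SUG_le_decStab [Finite F] [FiniteDimensional F V] (h : IsHerm σ B)
    (hn : 3 ≤ finrank F V) {ι : Type*} {D : ι → Submodule F V} {i : ι} {u v : V} (hu : u ∈ D i)
    (hu0 : u ≠ 0) (hv0 : v ≠ 0) (e : B u u = B v v) (hv : ∀ j, v ∉ D j) :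
    ¬ SUG B ≤ decStab D := fun hle => by
  obtain ⟨g, hg, rfl⟩ := h.exists_SUG_vec hn hu0 hv0 e
  obtain ⟨π, hπ⟩ := hle hg
  exact hv (π i) (hπ i ▸ Submodule.mem_map_of_mem hu)

theorem IsBar.isMaximalIn_pair (hσ : IsBar q σ) {n k : ℕ} (hk : 5 ≤ k)
    {D : Fin 2 → Submodule F (Fin n → F)} (hD : Geo.IsMDecomposition k D)
    (hts : ∀ i, Geo.IsTotallySingularFor (hermForm n F q) (D i)) :
    Geo.IsMaximalIn (GU n F q ⊓ Geo.specialLinear (Fin n) F)
      (Geo.decompositionStabilizer D ⊓ (GU n F q ⊓ Geo.specialLinear (Fin n) F)) := by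
  have := hσ.finite
  have h := hσ.isHerm (ι := Fin n)
  have h1 := fun i => hσ.le_perp_of_singular (hts i)
  have h2 := hD.finrank_eq
  have hc : IsCompl (D 0) (D 1) := ⟨hD.indep.pairwiseDisjoint (by decide), codisjoint_iff_le_sup.mpr (by
    rw [← hD.iSup_eq_top]
    exact iSup_le (Fin.forall_fin_two.mpr ⟨le_sup_left, le_sup_right⟩))⟩
  refine hσ.isMaximalIn_of (fun g _ => mem_decompositionStabilizer_iff g) ?_ fun K hH hK => ?_
  · obtain ⟨a, ha, ha0⟩ := exists_notMem_of_lt (W := D 0) (Z := ⊥) (by simp [h2]; omega)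
    have h3 := finrank_le_finrank_inf_perp h (D 1) (F ∙ a)
    have h4 := finrank_span_singleton_le (F := F) a
    obtain ⟨b, hb, hb0⟩ := exists_notMem_of_lt (W := D 1 ⊓ perp (stdForm σ (Fin n)) (F ∙ a))
      (Z := ⊥) (by rw [h2] at h3; simp only [finrank_bot]; omega)
    have h5 := mem_perp_singleton.mp hb.2
    have h6 : a + b ∉ D 0 := fun hm => hb0 (hc.disjoint.le_bot
      ⟨(Submodule.add_mem_iff_right _ ha).mp hm, hb.1⟩)
    refine h.not_SUG_le_decStab ((Submodule.finrank_le (D 0)).trans' (by rw [h2]; omega)) ha ha0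
      (v := a + b) (fun h0 => h6 (h0 ▸ zero_mem _)) (by
        simp [h5, h.eq_zero_comm.mp h5, show stdForm σ (Fin n) b b = 0 from h1 1 hb.1 b hb.1])
      (Fin.forall_fin_two.mpr ⟨h6, fun hm => ha0 (hc.disjoint.le_bot
        ⟨ha, (Submodule.add_mem_iff_left _ hb.1).mp hm⟩)⟩)
  refine or_iff_not_imp_right.mpr fun hK' g hg => ?_
  obtain ⟨k, rfl⟩ : ∃ k', k = k' + 1 := ⟨k - 1, by omega⟩
  obtain ⟨s, hs, hs1, hs2⟩ := h.exists_swap_pair hσ hc (h1 0) (h1 1) (h2 0) (h2 1)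
  have S : PairStr (stdForm σ (Fin n)) (D 0) (D 1) K := ⟨hc, h1 0, h1 1, (h2 0).symm ▸ hk,
    (h2 1).symm ▸ hk, hK, fun g h3 h4 h5 =>
      hH ⟨mem_decStab_of_forall (Fin.forall_fin_two.mpr ⟨h4, h5⟩), h3⟩, s,
    hH ⟨mem_decStab_of_perm h2 (Equiv.swap 0 1) (Fin.forall_fin_two.mpr ⟨hs1, hs2⟩), hs⟩, hs1, hs2⟩
  have key : ∀ i, ¬ ((∀ a ∈ D 0, g a ∈ D i) ∧ ∀ a ∈ D 1, g a ∈ D i) := fun i ⟨h3, h4⟩ => by
    have := Submodule.finrank_mono (Submodule.map_le_iff_le_comap.mpr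
      (sup_le h3 h4 : D 0 ⊔ D 1 ≤ (D i).comap g.toLinearMap))
    rw [LinearEquiv.finrank_map_eq, hc.sup_eq_top, finrank_top,
      ← Submodule.finrank_add_eq_of_isCompl hc, h2, h2, h2] at this
    omega
  rcases S.le_or_le h hσ hK' hg with h3 | h3 <;> rcases S.symm.le_or_le h hσ hK' hg with h4 | h4
  · exact mem_decStab_of_forall (Fin.forall_fin_two.mpr ⟨h3, h4⟩)
  · exact absurd ⟨h3, h4⟩ (key 0)
  · exact absurd ⟨h3, h4⟩ (key 1)
  · exact mem_decStab_of_perm h2 (Equiv.swap 0 1) (Fin.forall_fin_two.mpr ⟨h3, h4⟩)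

end Cfsg.Lib.Unitary
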