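import Cfsg.Agent.Lib.Unitary.PrimeOrd
import Cfsg.Agent.Lib.Unitary.Parab

/-!
# Invariant totally isotropic / non-degenerate subspaces of unitary isometries
-/

set_option autoImplicit false

namespace Cfsg.Lib.Unitary

open Module Matrix Polynomial Cfsg.Lib.GLC

variable {F V : Type*} [Field F] [AddCommGroup V] [Module F V] {σ : F →+* F}
  {B : V →ₛₗ[σ] V →ₗ[F] F} {q : ℕ}

/-- Dual actions have dual types. -/
theorem IsBar.typ_of_pairing (hσ : IsBar q σ) {X Y : Type*} [AddCommGroup X] [Module F X]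
    [AddCommGroup Y] [Module F Y] [Module.Finite F X] [Module.Finite F Y]
    (β : X →ₛₗ[σ] Y →ₗ[F] F) (hβ : ∀ y, (∀ x, β x y = 0) → y = 0) (hd : finrank F Y = finrank F X)
    {f : End F X} (hf : IsUnit f) {g : End F Y} (h : ∀ x y, β (f x) (g y) = β x y) :
    typ g = (typ f).map (dual σ) := by
  let b := Module.finBasis F X
  let e : Y ≃ₗ[F] (Fin (finrank F X) → F) := (LinearMap.pi fun i => β (b i)).linearEquivOfInjective
    ((injective_iff_map_eq_zero _).2 fun y hy => hβ y fun x => by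
      rw [← b.sum_repr x, map_sum]
      simp only [LinearMap.map_smulₛₗ, LinearMap.coe_sum, Finset.sum_apply, LinearMap.smul_apply]
      exact Finset.sum_eq_zero fun i _ => by rw [show β (b i) y = 0 from congrFun hy i, smul_zero])
    (by simp [hd])
  have he : ∀ y i, e y i = β (b i) y := fun _ _ => rfl
  obtain ⟨A, hA⟩ := (MulEquiv.isUnit_map (LinearMap.toMatrixAlgEquiv b)).2 hf
  have h1 : Sim f (toLin' A.1) := ⟨b.equivFun, fun v => by
    rw [hA, toLin'_apply]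
    exact (LinearMap.toMatrix_mulVec_repr b b f v).symm⟩
  have h2 : Sim g (toLin' ((ctGL σ A)⁻¹).1) := ⟨e, fun y => by
    have : (ctGL σ A).1 *ᵥ e (g y) = e y := by
      ext j
      rw [he, ← h, ← b.sum_repr (f (b j)), map_sum]
      simp [ct_apply, mulVec, dotProduct, hA, he, LinearMap.toMatrixAlgEquiv_apply]
    rw [toLin'_apply, ← this, mulVec_mulVec, Units.inv_mul, one_mulVec]⟩
  rw [h2.typ_eq, hσ.typ_dual, h1.typ_eq]

variable [FiniteDimensional F V] {g : V ≃ₗ[F] V}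

theorem perp_inv (hg : g ∈ UG B) {X : Submodule F V} (hX : ∀ x ∈ X, g x ∈ X) :
    ∀ y ∈ perp B X, g y ∈ perp B X := fun y hy =>
  (perp_mem_subStab hg (mem_subStab_of_le hX) y).1 hy

theorem isUnit_restrict {X : Submodule F V} (hX : ∀ x ∈ X, g x ∈ X) :
    IsUnit ((g : End F V).restrict hX) := (LinearMap.isUnit_iff_ker_eq_bot _).2
  (LinearMap.ker_eq_bot.2 fun _ _ h => Subtype.ext (g.injective (congrArg Subtype.val h)))

/-- The hyperbolic Hermitian form on `F^ι × F^ι`. -/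
def hypU (σ : F →+* F) (ι : Type*) [Fintype ι] :
    ((ι → F) × (ι → F)) →ₛₗ[σ] ((ι → F) × (ι → F)) →ₗ[F] F :=
  LinearMap.mk₂'ₛₗ σ (RingHom.id F) (fun u v => stdForm σ ι u.1 v.2 + stdForm σ ι u.2 v.1)
    (fun u u' v => by simp; ring) (fun c u v => by simp [LinearMap.map_smulₛₗ, mul_add])
    (fun u v v' => by simp; ring) (fun c u v => by simp [mul_add])

theorem hypU_apply {ι : Type*} [Fintype ι] (u v : (ι → F) × (ι → F)) :
    hypU σ ι u v = stdForm σ ι u.1 v.2 + stdForm σ ι u.2 v.1 := rfl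

theorem IsBar.isHerm_hypU (hσ : IsBar q σ) (ι : Type*) [Fintype ι] : IsHerm σ (hypU σ ι) where
  ne_id := hσ.ne_id
  invol := hσ.invol
  symm u v := by rw [hypU_apply, hypU_apply, map_add, hσ.isHerm.symm, hσ.isHerm.symm, add_comm]
  nondeg a h := Prod.ext (hσ.isHerm.nondeg _ fun v => by simpa [hypU_apply] using h (0, v))
    (hσ.isHerm.nondeg _ fun v => by simpa [hypU_apply] using h (v, 0))

namespace IsHerm

variable (h : IsHerm σ B) (hσ : IsBar q σ) (hg : g ∈ UG B)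
include h hσ hg

theorem typ_compl_perp {X Y : Submodule F V} (hX : ∀ x ∈ X, g x ∈ X) (hY : ∀ x ∈ Y, g x ∈ Y)
    (hc : IsCompl (perp B X) Y) :
    typ ((g : End F V).restrict hY) = (typ ((g : End F V).restrict hX)).map (dual σ) :=
  hσ.typ_of_pairing (B.domRestrict₁₂ X Y) (fun y hy => Subtype.ext
    (Submodule.disjoint_def.1 hc.disjoint _ (fun x hx => hy ⟨x, hx⟩) y.2)) (by
      have := Submodule.finrank_add_eq_of_isCompl hc
      have := h.finrank_add_finrank_perp X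
      omega) (isUnit_restrict hX) fun x y => hg x y

theorem add_map_le (hs : End.IsSemisimple (g : End F V)) {X : Submodule F V}
    (hX : ∀ x ∈ X, g x ∈ X) (h0 : X ≤ perp B X) :
    typ ((g : End F V).restrict hX) + (typ ((g : End F V).restrict hX)).map (dual σ) ≤
      typ (g : End F V) := by
  have h1 := perp_inv hg hX
  obtain ⟨Y, h2, h3⟩ := End.isSemisimple_iff.1 hs _ h1
  rw [typ_eq_add h3 h1 h2, ← h.typ_compl_perp hσ hg hX h2 h3]
  exact add_le_add (Symp.typ_le_of_le hs hX h1 h0) le_rfl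

theorem eq_perp_of_isCompl {X Y : Submodule F V} (hc : IsCompl X Y) (hX : X ≤ perp B X)
    (hY : Y ≤ perp B Y) : perp B X = X := by
  have h1 := Submodule.finrank_add_eq_of_isCompl hc
  have h2 := h.two_mul_finrank_le hX
  have h3 := h.two_mul_finrank_le hY
  have h4 := h.finrank_add_finrank_perp X
  exact (Submodule.eq_of_le_of_finrank_eq hX (by omega)).symm

theorem typ_of_polar {X Y : Submodule F V} (hc : IsCompl X Y) (hX0 : X ≤ perp B X)
    (hY0 : Y ≤ perp B Y) (hX : ∀ x ∈ X, g x ∈ X) (hY : ∀ x ∈ Y, g x ∈ Y) :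
    ∃ ν, typ (g : End F V) = ν + ν.map (dual σ) :=
  ⟨_, by rw [typ_eq_add hc hX hY, h.typ_compl_perp hσ hg hX hY
    ((h.eq_perp_of_isCompl hσ hg hc hX0 hY0).symm ▸ hc)]⟩

theorem exists_polar {ν : Multiset F[X]} (hν : typ (g : End F V) = ν + ν.map (dual σ)) :
    ∃ X Y : Submodule F V, (∀ x ∈ X, g x ∈ X) ∧ (∀ x ∈ Y, g x ∈ Y) ∧
      finrank F X = (ν.map natDegree).sum ∧ X ≤ perp B X ∧ Y ≤ perp B Y ∧ IsCompl X Y := by
  have := hσ.finite
  have h0 : ∀ P ∈ ν, P ∈ typ (g : End F V) := fun P hP => hν ▸ Multiset.mem_add.2 (.inl hP)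
  obtain ⟨A, hA⟩ := exists_gl_blocks (n := Fin (ν.map natDegree).sum) (μ := ν)
    (fun P hP => ⟨(typ_pp _ P (h0 P hP)).monic, (h.sd hσ hg).coeff_ne (h0 P hP)⟩) (by simp)
  let g' := (glEquiv _ F A).prodCongr (glEquiv _ F (ctGL σ A)⁻¹)
  have hg' : g' ∈ UG (hypU σ _) := fun u v => by
    have e1 : ∀ a b, stdForm σ _ (A.1 *ᵥ a) ((ctGL σ A)⁻¹.1 *ᵥ b) = stdForm σ _ a b := fun a b => by
      rw [stdForm_mulVec_left, mulVec_mulVec, ← ct_apply, ← ctGL_coe, Units.mul_inv, one_mulVec]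
    simp only [g', hypU_apply, LinearEquiv.prodCongr_apply, glEquiv_apply, e1]
    rw [← hσ.isHerm.symm (A.1 *ᵥ v.1), e1, hσ.isHerm.symm]
  obtain ⟨e, h2, h3⟩ := (hσ.isHerm_hypU _).exists_isometry_of_sim h hσ hg' hg
    ((hA.prodMap (hσ.blocks_dual hA)).sim (hν ▸ blocks_typ _))
  refine ⟨LinearMap.range (e.toLinearMap ∘ₗ LinearMap.inl F _ _),
    LinearMap.range (e.toLinearMap ∘ₗ LinearMap.inr F _ _), ?_, ?_, ?_, ?_, ?_, ?_⟩
  · rintro _ ⟨v, rfl⟩; exact ⟨A.1 *ᵥ v, by simp [← h3, g']⟩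
  · rintro _ ⟨v, rfl⟩; exact ⟨(ctGL σ A)⁻¹.1 *ᵥ v, by simp [← h3, g', -map_inv]⟩
  · rw [LinearMap.finrank_range_of_inj (f := e.toLinearMap ∘ₗ LinearMap.inl F _ _)
      (e.injective.comp LinearMap.inl_injective)]; simp
  · rintro _ ⟨v, rfl⟩ _ ⟨w, rfl⟩; simp [h2, hypU_apply]
  · rintro _ ⟨v, rfl⟩ _ ⟨w, rfl⟩; simp [h2, hypU_apply]
  · rw [LinearMap.range_comp, LinearMap.range_comp]
    exact (Submodule.orderIsoMapComap e).isCompl LinearMap.isCompl_range_inl_inr

theorem map_dual_add_map {ν : Multiset F[X]} (hν : ∀ P ∈ ν, P ∈ typ (g : End F V)) :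
    (ν + ν.map (dual σ)).map (dual σ) = ν + ν.map (dual σ) := by
  rw [Multiset.map_add, Multiset.map_map, add_comm, Multiset.map_congr (f := dual σ ∘ dual σ)
    (g := id) rfl fun P hP => hσ.dual_dual (typ_pp _ P (hν P hP)).monic
      ((h.sd hσ hg).coeff_ne (hν P hP)), Multiset.map_id]

theorem exists_nondeg_iff {m : ℕ} :
    (∃ X : Submodule F V, finrank F X = m ∧ Disjoint X (perp B X) ∧ ∀ x ∈ X, g x ∈ X) ↔
      ∃ μ ≤ typ (g : End F V), μ.map (dual σ) = μ ∧ (μ.map natDegree).sum = m := by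
  constructor
  · rintro ⟨X, h1, h2, h3⟩
    refine ⟨typ ((g : End F V).restrict h3), ?_, ?_, (blocks_typ _).finrank_eq.symm.trans h1⟩
    · rw [typ_eq_add (h.isCompl_perp h2) h3 (perp_inv hg h3)]; exact le_self_add
    · exact ((h.restrict h2).sd hσ (restr_mem_UG ⟨g, mem_subStab_of_le h3⟩ hg)).2
  · rintro ⟨μ, h1, h2, h3⟩
    obtain ⟨ν, h4⟩ := Multiset.le_iff_exists_add.1 h1
    obtain ⟨A, hA, a, b, rfl, h5, -⟩ := h.exists_nondeg_blocks hσ hg (h4 ▸ blocks_typ _) h2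
      (map_dual_right (h4 ▸ (h.sd hσ hg).2) h2)
    exact ⟨A, h5.finrank_eq.trans h3, hA, fun x hx => (glue_mem_subStab_left _ _ x).1 hx⟩

theorem exists_isotropic_iff (hs : End.IsSemisimple (g : End F V)) {m : ℕ} :
    (∃ X : Submodule F V, finrank F X = m ∧ X ≤ perp B X ∧ ∀ x ∈ X, g x ∈ X) ↔
      ∃ ν, ν + ν.map (dual σ) ≤ typ (g : End F V) ∧ (ν.map natDegree).sum = m := by
  refine ⟨fun ⟨X, h1, h2, h3⟩ => ⟨_, h.add_map_le hσ hg hs h3 h2,
    (blocks_typ _).finrank_eq.symm.trans h1⟩, fun ⟨ν, h1, h2⟩ => ?_⟩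
  have h0 : ∀ P ∈ ν, P ∈ typ (g : End F V) := fun P hP =>
    Multiset.mem_of_le h1 (Multiset.mem_add.2 (.inl hP))
  obtain ⟨ρ, h4⟩ := Multiset.le_iff_exists_add.1 h1
  have h3 := h.map_dual_add_map hσ hg h0
  obtain ⟨A, hA, a, b, rfl, h5, -⟩ := h.exists_nondeg_blocks hσ hg (h4 ▸ blocks_typ _) h3
    (map_dual_right (h4 ▸ (h.sd hσ hg).2) h3)
  obtain ⟨X, -, hX, -, h6, h7, -⟩ := (h.restrict hA).exists_polar hσ
    ((glue_mem_UG_iff _ h le_rfl _).1 hg).1 (ν := ν) (h5.typ_eq fun P hP =>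
      typ_pp _ P (Multiset.mem_of_le h1 hP))
  refine ⟨X.map A.subtype, by rw [Submodule.finrank_map_subtype_eq, h6, h2], ?_, ?_⟩
  · rintro _ ⟨u, hu, rfl⟩ _ ⟨v, hv, rfl⟩; exact h7 hu v hv
  · rintro _ ⟨u, hu, rfl⟩; exact ⟨_, hX u hu, (glue_apply_left _ _ _).symm⟩

end IsHerm

theorem guOrder_add (q m j : ℕ) : guOrder q (m + j) = q ^ (∑ i ∈ .range j, (m + i)) *
    (∏ i ∈ .range j, uf q (m + i)) * guOrder q m := by
  induction j with
  | zero => simp
  | succ j ih => rw [← add_assoc, guOrder_succ, ih, Finset.sum_range_succ, Finset.prod_range_succ]; ring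

theorem prod_sq_pow_sub (q k : ℕ) : ∏ i : Fin k, ((q ^ 2) ^ k - (q ^ 2) ^ (i : ℕ)) =
    q ^ (∑ i ∈ .range k, 2 * i) * ∏ i ∈ .range k, (q ^ (2 * (i + 1)) - 1) := by
  rw [Fin.prod_univ_eq_prod_range (fun i => (q ^ 2) ^ k - (q ^ 2) ^ i),
    ← Finset.prod_range_reflect (fun i => q ^ (2 * (i + 1)) - 1), ← Finset.prod_pow_eq_pow_sum,
    ← Finset.prod_mul_distrib]
  refine Finset.prod_congr rfl fun i hi => ?_
  have := Finset.mem_range.1 hi
  rw [Nat.mul_sub, mul_one, ← pow_add, ← pow_mul, ← pow_mul]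
  congr 2; omega

namespace IsHerm

variable (h : IsHerm σ B) (hσ : IsBar q σ)
include h hσ

theorem card_totIso_dvd {k m : ℕ} (hn : finrank F V = m + 2 * k) :
    Nat.card {W : Submodule F V // finrank F W = k ∧ W ≤ perp B W} ∣
      ∏ i ∈ .range (2 * k), uf q (m + i) := by
  have := hσ.finite
  have := Fintype.ofFinite F
  have h1 := h.card_totIso hσ hn
  have h2 : ∑ i ∈ .range (2 * k), (m + i) = k * (2 * m + k) + ∑ i ∈ .range k, 2 * i := by
    clear h1 hn
    induction k with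
    | zero => simp
    | succ k ih => rw [mul_add, mul_one, Finset.sum_range_succ, Finset.sum_range_succ, ih,
        Finset.sum_range_succ]; ring
  rw [guOrder_add, prod_sq_pow_sub, h2, ← mul_assoc] at h1
  have h3 := Nat.eq_of_mul_eq_mul_right (guOrder_pos hσ.two_le m) h1
  refine Dvd.intro (∏ i ∈ .range k, (q ^ (2 * (i + 1)) - 1)) (Nat.eq_of_mul_eq_mul_left
    (pow_pos (show 0 < q by have := hσ.two_le; omega) (k * (2 * m + k) + ∑ i ∈ .range k, 2 * i)) ?_)
  rw [← h3]; ring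

open scoped Pointwise in
theorem card_nondeg_dvd {k m : ℕ} (hn : finrank F V = m + k) :
    Nat.card {W : Submodule F V // finrank F W = k ∧ Disjoint W (perp B W)} ∣
      q ^ (∑ i ∈ .range k, (m + i)) * ∏ i ∈ .range k, uf q (m + i) := by
  have := hσ.finite
  obtain ⟨U, h1, h2⟩ := h.exists_nondeg (k := k) (by omega)
  have h3 := card_eq_mul_of_transitive (G := UG B) U (fun W => finrank F W = k ∧ Disjoint W (perp B W))
    fun W => ⟨fun hW => ?_, ?_⟩
  · have h4 : Nat.card (MulAction.stabilizer (UG B) U) = Nat.card ↥(UG B ⊓ subStab U) :=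
      Nat.card_congr ⟨fun a => ⟨a.1.1, a.1.2, mem_subStab_iff_map.2 a.2⟩,
        fun a => ⟨⟨a.1, a.2.1⟩, mem_subStab_iff_map.1 a.2.2⟩, fun _ => rfl, fun _ => rfl⟩
    have h5 := h.finrank_add_finrank_perp U
    rw [h4, Nat.card_congr (h.stabEquiv h2).toEquiv, Nat.card_prod, h.card_UG hσ,
      (h.restrict h2).card_UG hσ, (h.restrict_perp h2).card_UG hσ, hn, guOrder_add,
      show finrank F (perp B U) = m by omega, ← mul_assoc] at h3
    exact Dvd.intro _ (Nat.eq_of_mul_eq_mul_right (guOrder_pos hσ.two_le m) h3).symm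
  · obtain ⟨e, he⟩ := (h.restrict h2).exists_isometry (h.restrict hW.2) (h1.trans hW.1.symm)
    obtain ⟨a, ha, h4⟩ := h.witt_map U (W.subtype ∘ₗ e.toLinearMap)
      (Subtype.val_injective.comp e.injective) he
    refine ⟨⟨a, ha⟩, Submodule.eq_of_le_of_finrank_eq ?_
      ((a.finrank_map_eq U).trans (h1.trans hW.1.symm))⟩
    rintro _ ⟨v, hv, rfl⟩
    exact h4 ⟨v, hv⟩ ▸ (e _).2
  · rintro ⟨a, rfl⟩
    refine ⟨(a.1.finrank_map_eq U).trans h1, ?_⟩
    change Disjoint (U.map (a.1 : V →ₗ[F] V)) (perp B (U.map (a.1 : V →ₗ[F] V)))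
    rw [perp_map a.2]
    exact Submodule.disjoint_map a.1.injective h2

omit hσ in
theorem finrank_polar {X Y : Submodule F V} (hc : IsCompl X Y) (hX : X ≤ perp B X)
    (hY : Y ≤ perp B Y) : 2 * finrank F X = finrank F V ∧ 2 * finrank F Y = finrank F V := by
  have h1 := Submodule.finrank_add_eq_of_isCompl hc
  have h2 := h.two_mul_finrank_le hX
  have h3 := h.two_mul_finrank_le hY
  omega

omit hσ in
theorem exists_dual_basis {X Y : Submodule F V} (hc : IsCompl X Y) (hX : X ≤ perp B X)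
    (hY : Y ≤ perp B Y) {k : ℕ} (b : Basis (Fin k) F X) :
    ∃ c : Basis (Fin k) F Y, ∀ i j, B (b i) (c j) = if i = j then 1 else 0 := by
  have hd := h.finrank_polar hc hX hY
  let e : Y ≃ₗ[F] (Fin k → F) :=
    (LinearMap.pi fun i => (B (b i)).domRestrict Y).linearEquivOfInjective
    ((injective_iff_map_eq_zero _).2 fun y hy => Subtype.ext (h.nondeg_right _ fun v => by
      obtain ⟨x, y', rfl⟩ := exists_add_of_isCompl hc v
      rw [map_add, LinearMap.add_apply, hY y.2 y' y'.2, add_zero, ← b.sum_repr x]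
      simp only [Submodule.coe_sum, Submodule.coe_smul, map_sum, LinearMap.map_smulₛₗ,
        LinearMap.coe_sum, Finset.sum_apply, LinearMap.smul_apply]
      exact Finset.sum_eq_zero fun i _ => by rw [show B (b i) y = 0 from congrFun hy i, smul_zero]))
    (by have := finrank_eq_card_basis b; simp at this ⊢; omega)
  refine ⟨(Pi.basisFun F _).map e.symm, fun i j => ?_⟩
  change e (e.symm _) i = _
  simp [Pi.single_apply]

omit hσ in
theorem exists_polar_map {X Y X' Y' : Submodule F V} (hc : IsCompl X Y) (hX : X ≤ perp B X)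
    (hY : Y ≤ perp B Y) (hc' : IsCompl X' Y') (hX' : X' ≤ perp B X') (hY' : Y' ≤ perp B Y')
    (e : X ≃ₗ[F] X') : ∃ a ∈ UG B, (∀ x : X, a x = e x) ∧ ∀ y ∈ Y, a y ∈ Y' := by
  let b := Module.finBasis F X
  obtain ⟨c, hbc⟩ := h.exists_dual_basis hc hX hY b
  obtain ⟨c', hbc'⟩ := h.exists_dual_basis hc' hX' hY' (b.map e)
  have hli : ∀ {X Y : Submodule F V} (hc : IsCompl X Y) {k : ℕ} (b : Basis (Fin k) F X)
      (c : Basis (Fin k) F Y), LinearIndependent F (Sum.elim (fun i => (b i : V)) fun i => (c i : V)) :=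
    fun {X Y} hc k b c => by
      convert ((b.prod c).map (X.prodEquivOfIsCompl Y hc)).linearIndependent using 1
      ext (i | i) <;> simp
  obtain ⟨a, ha, h1⟩ := h.witt_family (hli hc b c) (hli hc' (b.map e) c') (by
    rintro (i | i) (j | j)
    · exact (hX (b j).2 _ (b i).2).trans (hX' (b.map e j).2 _ (b.map e i).2).symm
    · exact (hbc i j).trans (hbc' i j).symm
    · simp only [Sum.elim_inr, Sum.elim_inl]
      rw [← h.symm, hbc, ← h.symm (b.map e j), hbc']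
    · exact (hY (c j).2 _ (c i).2).trans (hY' (c' j).2 _ (c' i).2).symm)
  refine ⟨a, ha, fun x => ?_, fun y hy => ?_⟩
  · exact LinearMap.congr_fun (b.ext (f₁ := a.toLinearMap ∘ₗ X.subtype)
      (f₂ := X'.subtype ∘ₗ e.toLinearMap) fun i => h1 (.inl i)) x
  · rw [show y = (⟨y, hy⟩ : Y) from rfl, ← c.sum_repr ⟨y, hy⟩]
    simp only [Submodule.coe_sum, Submodule.coe_smul, map_sum, map_smul]
    exact Y'.sum_mem fun i _ => Y'.smul_mem _ ((h1 (.inr i)).symm ▸ (c' i).2)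

theorem exists_SUG_polar {X Y X' Y' : Submodule F V} (hV : 1 ≤ finrank F V) (hc : IsCompl X Y)
    (hX : X ≤ perp B X) (hY : Y ≤ perp B Y) (hc' : IsCompl X' Y') (hX' : X' ≤ perp B X')
    (hY' : Y' ≤ perp B Y') : ∃ a ∈ SUG B, (∀ x ∈ X, a x ∈ X') ∧ ∀ y ∈ Y, a y ∈ Y' := by
  have := hσ.finite
  have hd := h.finrank_polar hc hX hY
  have hd' := h.finrank_polar hc' hX' hY'
  obtain ⟨a, ha, h1, h2⟩ := h.exists_polar_map hc hX hY hc' hX' hY'
    (LinearEquiv.ofFinrankEq _ _ (by omega))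
  obtain ⟨k, hk⟩ : ∃ k, finrank F X = k + 1 := ⟨finrank F X - 1, by omega⟩
  let b := Module.finBasisOfFinrankEq F X hk
  obtain ⟨c, hbc⟩ := h.exists_dual_basis hc hX hY b
  have hef : B (b 0) (c 0) = 1 := by simp [hbc]
  have hfe : B (c 0) (b 0) = 1 := by rw [← h.symm, hef, map_one]
  obtain ⟨d, hd⟩ := hσ.barHom_surjective (⟨LinearEquiv.det a, by
    rw [mem_normOne, LinearEquiv.coe_det]; exact h.det_mul_conj ha⟩ : normOne σ)⁻¹
  let t := tor B (b 0) (c 0) hef hfe d (Units.map σ.toMonoidHom d)⁻¹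
  have ht : ∀ v, t v = _ := tor_apply hef hfe (hY (c 0).2 _ (c 0).2) _ _
  refine ⟨a * t, mem_SUG.2 ⟨mul_mem ha (h.tor_mem_UG hef hfe (hX (b 0).2 _ (b 0).2)
    (hY (c 0).2 _ (c 0).2) (by simp)), ?_⟩, fun x hx => ?_, fun y hy => ?_⟩
  · rw [map_mul, det_tor, mul_eq_one_iff_inv_eq]
    exact (congrArg Subtype.val hd).symm
  · have : t x ∈ X := by
      rw [ht, hX hx _ (b 0).2, mul_zero, zero_smul, add_zero]
      exact add_mem hx (X.smul_mem _ (b 0).2)
    exact (h1 ⟨_, this⟩).symm ▸ Subtype.prop _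
  · refine h2 (t y) ?_
    rw [ht, hY hy _ (c 0).2, mul_zero, zero_smul, add_zero]
    exact add_mem hy (Y.smul_mem _ (c 0).2)

theorem relIndex_polar_dvd {X Y : Submodule F V} (hc : IsCompl X Y) (hX : X ≤ perp B X)
    (hY : Y ≤ perp B Y) {k : ℕ} (hk : finrank F X = k) :
    ∃ e, (subStab X ⊓ subStab Y).relIndex (UG B) ∣ q ^ e * ∏ i ∈ .range k, (q ^ (2 * i + 1) + 1) := by
  have := hσ.finite
  have := Fintype.ofFinite F
  have := finite_linearEquiv (F := F) (V := V)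
  have hd := h.finrank_polar hc hX hY
  let L := (subStab X ⊓ subStab Y).subgroupOf (UG B)
  let ρ : L →* (X ≃ₗ[F] X) := (restr X).comp
    (((UG B).subtype.comp L.subtype).codRestrict _ fun a => a.2.1)
  have hρ : Function.Surjective ρ := fun e => by
    obtain ⟨a, ha, h1, h2⟩ := h.exists_polar_map hc hX hY hc hX hY e
    exact ⟨⟨⟨a, ha⟩, mem_subStab_of_le fun x hx => (h1 ⟨x, hx⟩).symm ▸ (e _).2,
      mem_subStab_of_le h2⟩, LinearEquiv.ext fun x => Subtype.ext (h1 x)⟩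
  have h1 := Subgroup.card_dvd_of_surjective ρ hρ
  have h2 := L.index_mul_card
  rw [card_linearEquiv hk, ← Nat.card_eq_fintype_card, hσ.card, prod_sq_pow_sub] at h1
  have h3 : ∏ i ∈ .range (2 * k), uf q i = (∏ i ∈ .range k, (q ^ (2 * i + 1) + 1)) *
      ∏ i ∈ .range k, (q ^ (2 * (i + 1)) - 1) := by
    clear h1 hd hk
    induction k with
    | zero => simp
    | succ k ih =>
      rw [mul_add, mul_one, Finset.prod_range_succ, Finset.prod_range_succ, ih,
        Finset.prod_range_succ, Finset.prod_range_succ, uf, uf, if_pos (even_two_mul k),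
        if_neg (by simp), show 2 * k + 1 + 1 = 2 * (k + 1) by ring]
      ring
  rw [h.card_UG hσ, ← hd.1, hk, guOrder, h3, ← mul_assoc] at h2
  refine ⟨_, Nat.dvd_of_mul_dvd_mul_right (Finset.prod_pos fun i _ => Nat.sub_pos_of_lt
    (Nat.one_lt_pow (by omega) hσ.two_le)) (h2 ▸ Nat.mul_dvd_mul_left _
      ((dvd_mul_left _ _).trans h1))⟩

end IsHerm

end Cfsg.Lib.Unitary
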