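import Cfsg.Agent.Lib.Unitary.SixC

/-!
# The stabiliser of an orthonormal frame in `SU_7(q)`: supports, and the case `q = 2`
-/

set_option autoImplicit false

namespace Cfsg.Lib.Unitary

open Module Finset

variable {F V : Type*} [Field F] [AddCommGroup V] [Module F V] {σ : F →+* F}
  {B : V →ₛₗ[σ] V →ₗ[F] F} {q : ℕ} {ι : Type*} [Fintype ι] [DecidableEq ι]

theorem IsBar.norm_of_two (hσ : IsBar 2 σ) {c : F} (hc : c ≠ 0) : c * σ c = 1 := by
  have := hσ.finite
  have := Fintype.ofFinite F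
  have h := FiniteField.pow_card_sub_one_eq_one c hc
  rw [← Nat.card_eq_fintype_card, hσ.card] at h
  rw [hσ.eq, ← h]
  norm_num
  ring

namespace FrameStr

variable {e : ι → V} {K : Subgroup (V ≃ₗ[F] V)} (S : FrameStr B e K) [FiniteDimensional F V]
include S

/-- Every column of a non-monomial element has at most one zero (`n ≥ 7`). -/
theorem card_supp7b (hσ : IsBar q σ) (hn : 7 ≤ Fintype.card ι)
    (hB : ∀ g ∈ K, ∀ i, g (e i) ∈ F ∙ e i → g ∈ decStab fun i => F ∙ e i)
    {g : V ≃ₗ[F] V} (hg : g ∈ K) (hg' : g ∉ decStab fun i => F ∙ e i) (j : ι) :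
    Fintype.card ι ≤ (supp B e (g (e j))).card + 1 := by
  by_contra hlt
  obtain ⟨k, hk, l, hl, hkl⟩ := one_lt_card.mp (show 1 < (supp B e (g (e j)))ᶜ.card by
    rw [card_compl]; omega)
  simp only [mem_compl, mem_supp, not_not] at hk hl
  have h1 := (S.supp_of_zero hσ hB (inv_mem hg) (by simpa using hg') hkl (j := j)
    (by simpa using hk) (by simpa using hl)).1
  let Z := (supp B e (g⁻¹ (e k)))ᶜ
  have hZ : 4 ≤ Z.card := by rw [card_compl]; omega
  have h2 : ∀ a ∈ Z, ∀ b ∈ Z, a ≠ b → (supp B e (g (e a))).card ≤ 3 ∧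
      supp B e (g (e a)) ⊆ supp B e (g (e b)) := fun a ha b hb hab =>
    S.supp_of_zero hσ hB hg hg' hab (j := k) (by simpa [Z] using ha) (by simpa [Z] using hb)
  obtain ⟨a, ha, b, hb, hab⟩ := one_lt_card.mp (show 1 < Z.card by omega)
  have h3 : (Submodule.span F (e '' Z)).map (g : V →ₗ[F] V) ≤
      Submodule.span F (e '' supp B e (g (e a))) := by
    rw [Submodule.map_span, Submodule.span_le]
    rintro _ ⟨_, ⟨c, hc, rfl⟩, rfl⟩
    by_cases h : c = a
    · exact S.mem_span_iff.mpr (by simp [h])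
    · exact S.mem_span_iff.mpr (h2 c hc a ha h).2
  have h4 := Submodule.finrank_mono h3
  rw [LinearEquiv.finrank_map_eq, S.finrank_span, S.finrank_span] at h4
  have := (h2 a ha b hb hab).1
  omega

/-- `q = 2`, `n = 7`: columns have odd weight, so a non-monomial element has no zero entry. -/
theorem ne_zero7_two (hσ : IsBar 2 σ) (hn : Fintype.card ι = 7)
    (hB : ∀ g ∈ K, ∀ i, g (e i) ∈ F ∙ e i → g ∈ decStab fun i => F ∙ e i)
    {g : V ≃ₗ[F] V} (hg : g ∈ K) (hg' : g ∉ decStab fun i => F ∙ e i) (i j : ι) :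
    B (e i) (g (e j)) ≠ 0 := by
  intro h0
  have h1 := S.card_supp7b hσ hn.ge hB hg hg' j
  have h2 : (supp B e (g (e j))).card < Fintype.card ι :=
    card_lt_univ_of_notMem (x := i) (by simpa using h0)
  have h3 := S.sum_supp (g (e j)) le_rfl
  rw [S.leU hg, S.self, sum_congr rfl (g := fun _ => (1 : F)) fun k hk => by
    rw [← S.herm.symm, mul_comm]; exact hσ.norm_of_two (mem_supp.mp hk), sum_const,
    show (supp B e (g (e j))).card = 6 by omega] at h3
  have h4 : (2 : F) = 0 := by exact_mod_cast hσ.cast_q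
  exact one_ne_zero (α := F) (by
    simp only [nsmul_eq_mul, Nat.cast_ofNat, mul_one] at h3
    linear_combination -h3 + 3 * h4)

/-- `q = 2`, `n = 7`: the conjugate of `diag (ω, ω², 1, ..)` has the diagonal entries `1 + ω² + ω = 0`. -/
theorem le_mono7_two (hσ : IsBar 2 σ) (hn : Fintype.card ι = 7)
    (hB : ∀ g ∈ K, ∀ i, g (e i) ∈ F ∙ e i → g ∈ decStab fun i => F ∙ e i) :
    K ≤ decStab fun i => F ∙ e i := fun g hg => by
  by_contra hg'
  obtain ⟨k, l, hkl⟩ := Fintype.exists_pair_of_one_lt_card (show 1 < Fintype.card ι by omega)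
  obtain ⟨μ, h1, h2⟩ := hσ.exists_norm_one_sq_ne
  obtain ⟨s, hs, e1⟩ := S.exists_diag_two hkl h1
  have e2 := e1.conj (S.leU hg)
  have hx := mul_mem (mul_mem hg hs) (inv_mem hg)
  refine S.ne_zero7_two hσ hn hB hx (fun h => ?_) k k ?_
  · have := S.card_supp7b hσ hn.ge hB hg hg' k
    have := S.card_supp_of_isBi e2 h2 h1 h
    omega
  · have h3 := hσ.norm_of_two (S.ne_zero7_two hσ hn hB hg hg' k k)
    have h4 := hσ.norm_of_two (S.ne_zero7_two hσ hn hB hg hg' k l)
    rw [S.herm.symm] at h3 h4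
    have h5 : (2 : F) = 0 := by exact_mod_cast hσ.cast_q
    have h6 : μ - 1 ≠ 0 := fun h => h2 (by simp [sub_eq_zero.mp h])
    have h7 := hσ.norm_of_two h6
    rw [map_sub, map_one] at h7
    rw [e2]
    simp only [map_add, map_smul, S.self, smul_eq_mul]
    linear_combination (μ - 1) * h3 + (σ μ - 1) * h4 - h7 + h1

end FrameStr

end Cfsg.Lib.Unitary
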