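import Cfsg.Agent.Lib.Unitary.MaxCore
import Cfsg.Agent.Lib.Unitary.Descent

/-!
# Rational structures on a hermitian space (subfield subgroups of `SU`)
-/

set_option autoImplicit false

namespace Cfsg.Lib.Unitary

open Module

variable {F V : Type*} [Field F] [AddCommGroup V] [Module F V] {σ : F →+* F}
  {B : V →ₛₗ[σ] V →ₗ[F] F} {q : ℕ}

/-- The linear maps commuting with the semilinear map `T` up to a scalar. -/
def ratStab (F : Type*) {V : Type*} [Field F] [AddCommGroup V] [Module F V] (T : AddMonoid.End V) :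
    Subgroup (V ≃ₗ[F] V) where
  carrier := {g | ∃ d : F, d ≠ 0 ∧ ∀ v, T (g v) = d • g (T v)}
  mul_mem' := by
    rintro a b ⟨d, hd, ha⟩ ⟨d', hd', hb⟩
    exact ⟨d * d', mul_ne_zero hd hd', fun v => by simp [ha, hb, smul_smul]⟩
  one_mem' := ⟨1, one_ne_zero, fun v => by simp⟩
  inv_mem' := by
    rintro a ⟨d, hd, ha⟩
    refine ⟨d⁻¹, inv_ne_zero hd, fun v => a.injective ?_⟩
    have := ha (a⁻¹ v)
    simp only [LinearEquiv.coe_inv, LinearEquiv.apply_symm_apply] at this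
    simp [this, smul_smul, inv_mul_cancel₀ hd]

theorem mem_ratStab_of_comm {T : AddMonoid.End V} {g : V ≃ₗ[F] V} (h : ∀ v, T (g v) = g (T v)) :
    g ∈ ratStab F T := ⟨1, one_ne_zero, by simpa using h⟩

theorem comm_of_mem_ratStab {T : AddMonoid.End V} {g : V ≃ₗ[F] V} (h : g ∈ ratStab F T) {e : V}
    (he0 : e ≠ 0) (hT : T e = e) (hg : g e = e) (v : V) : T (g v) = g (T v) := by
  obtain ⟨d, -, hd⟩ := h
  have := hd e
  rw [hg, hT, hg] at this
  have h1 : d = 1 := smul_left_injective F he0 (by simpa using this.symm)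
  rw [hd, h1, one_smul]

theorem finrank_span_four_le (a b c d : V) : finrank F (Submodule.span F {a, b, c, d}) ≤ 4 := by
  classical
  have := finrank_span_finset_le_card (R := F) ({a, b, c, d} : Finset V)
  rw [Set.finrank, Finset.coe_insert, Finset.coe_insert, Finset.coe_pair] at this
  exact this.trans Finset.card_le_four

theorem finrank_span_three_le (a b c : V) : finrank F (Submodule.span F {a, b, c}) ≤ 3 := by
  classical
  have := finrank_span_finset_le_card (R := F) ({a, b, c} : Finset V)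
  rw [Set.finrank, Finset.coe_insert, Finset.coe_pair] at this
  exact this.trans Finset.card_le_three

theorem finrank_span_one_le (a : V) : finrank F (F ∙ a) ≤ 1 := by
  simpa using finrank_span_le_card (R := F) ({a} : Set V)

/-- A rational structure compatible with the hermitian form: the fixed points of `T`. -/
structure RatStr (B : V →ₛₗ[σ] V →ₗ[F] F) (τ : F ≃+* F) (T : AddMonoid.End V) (ζ ε : F) :
    Prop where
  smul : ∀ s v, T (s • v) = τ s • T v
  pow : T ^ orderOf τ = 1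
  form : ∀ u v, B (T u) (T v) = ε * τ (B u v)
  comm : ∀ a, τ (σ a) = σ (τ a)
  eps : ε = 1 ∨ ε = -1
  zeta_ne : ζ ≠ 0
  zeta : τ ζ = ε * ζ
  tr : ∀ x, T x = x → ∃ γ, τ γ = ε * γ ∧ γ + σ γ + B x x = 0
  iso : ∀ x y z, T x = x → T y = y → T z = z → ∃ a b c, τ a = a ∧ τ b = b ∧ τ c = c ∧
    (a ≠ 0 ∨ b ≠ 0 ∨ c ≠ 0) ∧ B (a • x + b • y + c • z) (a • x + b • y + c • z) = 0
  prime : (orderOf τ).Prime

namespace RatStr

variable {τ : F ≃+* F} {T : AddMonoid.End V} {ζ ε : F} (R : RatStr B τ T ζ ε)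
include R

theorem eps_sq : ε * ε = 1 := by rcases R.eps with rfl | rfl <;> simp

theorem eps_ne : ε ≠ 0 := left_ne_zero_of_mul_eq_one R.eps_sq

theorem map_eps : σ ε = ε := by rcases R.eps with rfl | rfl <;> simp

theorem tau_eps : τ ε = ε := by rcases R.eps with rfl | rfl <;> simp

theorem tau_form {u v : V} (hu : T u = u) (hv : T v = v) : τ (B u v) = ε * B u v := by
  conv_rhs => rw [← hu, ← hv, R.form, ← mul_assoc, R.eps_sq, one_mul]

theorem tau_zeta_form {u v : V} (hu : T u = u) (hv : T v = v) : τ (ζ * B u v) = ζ * B u v := by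
  rw [map_mul, R.tau_form hu hv, R.zeta, mul_mul_mul_comm, R.eps_sq, one_mul]

theorem form_right {u : V} (hu : T u = u) (v : V) : B u (T v) = ε * τ (B u v) := by
  conv_lhs => rw [← hu, R.form]

theorem fix_smul {a : F} {u : V} (ha : τ a = a) (hu : T u = u) : T (a • u) = a • u := by
  rw [R.smul, ha, hu]

theorem exists_apply_eq {W : Submodule F V} (hW : ∀ w ∈ W, T w ∈ W) {w : V} (hw : w ∈ W) :
    ∃ w' ∈ W, T w' = w := by
  have hW' : ∀ k, (T ^ k) w ∈ W := fun k => by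
    induction k with
    | zero => exact hw
    | succ k ih => rw [pow_succ']; exact hW _ ih
  obtain ⟨k, hk⟩ := Nat.exists_eq_succ_of_ne_zero R.prime.ne_zero
  refine ⟨_, hW' k, ?_⟩
  have := R.pow
  rw [hk, pow_succ'] at this
  exact DFunLike.congr_fun this w

theorem surj (v : V) : ∃ w, T w = v := by
  obtain ⟨w, -, h⟩ := R.exists_apply_eq (W := ⊤) (fun _ _ => trivial) (w := v) trivial
  exact ⟨w, h⟩

theorem inv_perp {W : Submodule F V} (hW : ∀ w ∈ W, T w ∈ W) : ∀ v ∈ perp B W, T v ∈ perp B W :=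
  fun v hv w hw => by
    obtain ⟨w', hw', rfl⟩ := R.exists_apply_eq hW hw
    change B _ _ = 0
    rw [R.form, mem_perp.mp hv w' hw', map_zero, mul_zero]

theorem inv_span' {s : Set V} (hs : ∀ x ∈ s, T x ∈ Submodule.span F s) :
    ∀ w ∈ Submodule.span F s, T w ∈ Submodule.span F s := fun w hw => by
  induction hw using Submodule.span_induction with
  | mem x hx => exact hs x hx
  | zero => simp
  | add x y _ _ hx hy => rw [map_add]; exact add_mem hx hy
  | smul a x _ hx => rw [R.smul]; exact Submodule.smul_mem _ _ hx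

theorem inv_span {s : Set V} (hs : ∀ x ∈ s, T x = x) :
    ∀ w ∈ Submodule.span F s, T w ∈ Submodule.span F s :=
  R.inv_span' fun x hx => by rw [hs x hx]; exact Submodule.subset_span hx

theorem exists_iso_add (h : IsHerm σ B) {e f : V} (he : T e = e) (hf : T f = f) (hee : B e e = 0)
    (hef : B e f ≠ 0) : ∃ γ, τ γ = γ ∧ B (f + γ • e) (f + γ • e) = 0 := by
  obtain ⟨γ, h1, h2⟩ := R.tr f hf
  have hfe : B f e ≠ 0 := fun h0 => hef (h.eq_zero_comm.mp h0)
  refine ⟨γ / B f e, by rw [map_div₀, h1, R.tau_form hf he, mul_div_mul_left _ _ R.eps_ne], ?_⟩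
  simp [LinearMap.map_smulₛₗ, hee, h.symm, hef, hfe]
  linear_combination h2

variable [Finite F]

theorem exists_fixed_notMem {W Z : Submodule F V} (hW : ∀ w ∈ W, T w ∈ W) (hWZ : ¬ W ≤ Z) :
    ∃ u ∈ W, T u = u ∧ u ∉ Z := by
  obtain ⟨w, hw, hwZ⟩ := SetLike.not_le_iff_exists.mp hWZ
  obtain ⟨φ, h1, h2⟩ := Submodule.exists_dual_map_eq_bot_of_notMem hwZ inferInstance
  obtain ⟨u, hu, hT, h3⟩ := exists_fixed_apply_ne R.smul R.pow φ hW hw h1
  exact ⟨u, hu, hT, fun h => h3 ((Submodule.eq_bot_iff _).mp h2 _ ⟨u, h, rfl⟩)⟩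

variable [FiniteDimensional F V]

theorem exists_iso {W Z : Submodule F V} (hW : ∀ w ∈ W, T w ∈ W)
    (hd : finrank F Z + 3 ≤ finrank F W) : ∃ u ∈ W, T u = u ∧ B u u = 0 ∧ u ∉ Z := by
  have key : ∀ (Z : Submodule F V), finrank F Z < finrank F W → ∃ u ∈ W, T u = u ∧ u ∉ Z :=
    fun Z hZ => R.exists_fixed_notMem hW fun hle => (Submodule.finrank_mono hle).not_gt hZ
  have hs : ∀ (Z : Submodule F V) (x : V), finrank F ↥(Z ⊔ F ∙ x) ≤ finrank F Z + 1 := fun Z x =>
    (Submodule.finrank_add_le_finrank_add_finrank _ _).trans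
      (Nat.add_le_add_left (finrank_span_one_le x) _)
  obtain ⟨x, hx, hTx, hxZ⟩ := key Z (by omega)
  obtain ⟨y, hy, hTy, hyZ⟩ := key (Z ⊔ F ∙ x) (by have := hs Z x; omega)
  obtain ⟨z, hz, hTz, hzZ⟩ := key (Z ⊔ (F ∙ x) ⊔ F ∙ y)
    (by have := hs Z x; have := hs (Z ⊔ F ∙ x) y; omega)
  obtain ⟨a, b, c, ha, hb, hc, h0, h1⟩ := R.iso x y z hTx hTy hTz
  refine ⟨_, add_mem (add_mem (W.smul_mem _ hx) (W.smul_mem _ hy)) (W.smul_mem _ hz), by
    rw [map_add, map_add, R.fix_smul ha hTx, R.fix_smul hb hTy, R.fix_smul hc hTz], h1,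
    fun hm => ?_⟩
  have mx : ∀ t : F, t • x ∈ F ∙ x := fun t => Submodule.smul_mem _ _ (Submodule.mem_span_singleton_self x)
  have my : ∀ t : F, t • y ∈ F ∙ y := fun t => Submodule.smul_mem _ _ (Submodule.mem_span_singleton_self y)
  have hc0 : c = 0 := by
    by_contra hc0
    refine hzZ ((Submodule.smul_mem_iff _ hc0).mp ?_)
    rw [show c • z = (a • x + b • y + c • z) + (-a) • x + (-b) • y by module]
    exact Submodule.add_mem_sup (Submodule.add_mem_sup hm (mx _)) (my _)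
  have hb0 : b = 0 := by
    by_contra hb0
    refine hyZ ((Submodule.smul_mem_iff _ hb0).mp ?_)
    rw [show b • y = (a • x + b • y + c • z) + (-a) • x by rw [hc0]; module]
    exact Submodule.add_mem_sup hm (mx _)
  refine hxZ ((Submodule.smul_mem_iff _ (by simpa [hb0, hc0] using h0)).mp ?_)
  simpa [hb0, hc0] using hm

variable (h : IsHerm σ B)
include h

theorem exists_decomp {W : Submodule F V} (hW : ∀ w ∈ W, T w ∈ W)
    (hd : finrank F V + 5 ≤ 2 * finrank F W) {x : V} (hx : x ∈ W) (hT : T x = x) :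
    ∃ u₁ u₂ u₃, (u₁ ∈ W ∧ T u₁ = u₁ ∧ B u₁ u₁ = 0) ∧ (u₂ ∈ W ∧ T u₂ = u₂ ∧ B u₂ u₂ = 0) ∧
      (u₃ ∈ W ∧ T u₃ = u₃ ∧ B u₃ u₃ = 0) ∧ x = u₁ - u₂ - u₃ := by
  have hW' : ∀ w ∈ W ⊓ perp B (F ∙ x), T w ∈ W ⊓ perp B (F ∙ x) := fun w hw =>
    ⟨hW w hw.1, R.inv_perp (R.inv_span (by simpa using hT)) w hw.2⟩
  have h1 := Submodule.finrank_sup_add_finrank_inf_eq W (perp B (F ∙ x))
  have h2 := h.finrank_add_finrank_perp (F ∙ x)
  have h3 := finrank_span_one_le (F := F) x
  have h4 := Submodule.finrank_le (W ⊔ perp B (F ∙ x))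
  have h5 := h.finrank_add_finrank_perp (W ⊓ perp B (F ∙ x))
  obtain ⟨e, he, hTe, hee, heZ⟩ := R.exists_iso hW' (Z := perp B (W ⊓ perp B (F ∙ x))) (by omega)
  obtain ⟨f₁, hf₁, hTf₁, hef₁⟩ := R.exists_fixed_notMem hW' (Z := perp B (F ∙ e)) (fun hle =>
    heZ (h.le_perp_comm hle (Submodule.mem_span_singleton_self e)))
  rw [mem_perp_singleton] at hef₁
  obtain ⟨γ, hγ, hf⟩ := R.exists_iso_add h hTe hTf₁ hee hef₁
  have hex : B e x = 0 := h.eq_zero_comm.mp (mem_perp_singleton.mp he.2)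
  have hTf : T (f₁ + γ • e) = f₁ + γ • e := by rw [map_add, hTf₁, R.fix_smul hγ hTe]
  have hT' : T (x + (f₁ + γ • e)) = x + (f₁ + γ • e) := by rw [map_add, hT, hTf]
  obtain ⟨γ', hγ', hu⟩ := R.exists_iso_add h hTe hT' hee (by simpa [hex, hee] using hef₁)
  have hfW : f₁ + γ • e ∈ W := add_mem hf₁.1 (W.smul_mem _ he.1)
  exact ⟨_, _, γ' • e, ⟨add_mem (add_mem hx hfW) (W.smul_mem _ he.1),
    by rw [map_add, hT', R.fix_smul hγ' hTe], hu⟩, ⟨hfW, hTf, hf⟩,
    ⟨W.smul_mem _ he.1, R.fix_smul hγ' hTe, by simp [LinearMap.map_smulₛₗ, hee]⟩, by abel⟩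

theorem exists_iso_notMem_of_not_le {W Z : Submodule F V} (hW : ∀ w ∈ W, T w ∈ W)
    (hd : finrank F V + 5 ≤ 2 * finrank F W) (hWZ : ¬ W ≤ Z) :
    ∃ u ∈ W, T u = u ∧ B u u = 0 ∧ u ∉ Z := by
  obtain ⟨x, hx, hT, hxZ⟩ := R.exists_fixed_notMem hW hWZ
  obtain ⟨u₁, u₂, u₃, h1, h2, h3, rfl⟩ := R.exists_decomp h hW hd hx hT
  by_contra hcon
  push Not at hcon
  exact hxZ (sub_mem (sub_mem (hcon _ h1.1 h1.2.1 h1.2.2) (hcon _ h2.1 h2.2.1 h2.2.2))
    (hcon _ h3.1 h3.2.1 h3.2.2))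

variable (hn : 13 ≤ finrank F V)
include hn

theorem exists_iso_orth {a b c d : V} (ha : T a = a) (hb : T b = b) (hc : T c = c) (hd : T d = d)
    {y : V} (hy : y ∉ Submodule.span F {a, b, c, d}) : ∃ u, T u = u ∧ B u u = 0 ∧
      B a u = 0 ∧ B b u = 0 ∧ B c u = 0 ∧ B d u = 0 ∧ B y u ≠ 0 := by
  have h1 := h.finrank_add_finrank_perp (Submodule.span F {a, b, c, d})
  have h2 := finrank_span_four_le (F := F) a b c d
  obtain ⟨u, hu, h3, h4, h5⟩ := R.exists_iso_notMem_of_not_le h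
    (R.inv_perp (R.inv_span (s := {a, b, c, d}) (by simp [ha, hb, hc, hd]))) (by omega)
    (Z := perp B (F ∙ y)) (fun hle => hy (by
      rw [← h.perp_perp (Submodule.span F {a, b, c, d})]
      exact h.le_perp_comm hle (Submodule.mem_span_singleton_self y)))
  rw [mem_perp_span] at hu
  exact ⟨u, h3, h4, hu a (by simp), hu b (by simp), hu c (by simp), hu d (by simp),
    by rwa [mem_perp_singleton] at h5⟩

theorem exists_iso_perp {W Z : Submodule F V} (hW : ∀ w ∈ W, T w ∈ W) (hW4 : finrank F W ≤ 4)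
    (hZ : finrank F Z ≤ 6) : ∃ u ∈ perp B W, T u = u ∧ B u u = 0 ∧ u ∉ Z := by
  have h1 := h.finrank_add_finrank_perp W
  exact R.exists_iso (R.inv_perp hW) (by omega)

theorem exists_iso_notMem {a b c d : V} (ha : T a = a) (hb : T b = b) (hc : T c = c)
    (hd : T d = d) {Z : Submodule F V} (hZ : finrank F Z ≤ 6) : ∃ u, T u = u ∧ B u u = 0 ∧
      B a u = 0 ∧ B b u = 0 ∧ B c u = 0 ∧ B d u = 0 ∧ u ∉ Z := by
  obtain ⟨u, hu, h3, h4, h5⟩ := R.exists_iso_perp h hn
    (R.inv_span (s := {a, b, c, d}) (by simp [ha, hb, hc, hd])) (finrank_span_four_le a b c d) hZ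
  rw [mem_perp_span] at hu
  exact ⟨u, h3, h4, hu a (by simp), hu b (by simp), hu c (by simp), hu d (by simp), h5⟩

theorem exists_partner {e : V} (he0 : e ≠ 0) (hT : T e = e) (he : B e e = 0) :
    ∃ f, T f = f ∧ B f f = 0 ∧ B e f ≠ 0 := by
  obtain ⟨f, h1, h2, -, -, -, -, h3⟩ := R.exists_iso_orth h hn (map_zero T) (map_zero T)
    (map_zero T) (map_zero T) (y := e) (by simpa using he0)
  exact ⟨f, h1, h2, h3⟩

/-- A linear map preserving the rational isotropic points preserves the rational structure. -/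
theorem mem_ratStab_of_points {g : V ≃ₗ[F] V}
    (hg : ∀ u, T u = u → B u u = 0 → ∃ d : F, T (g u) = d • g u) : g ∈ ratStab F T := by
  have key : ∀ u u' (d d' : F), T u = u → T u' = u' → B u u = 0 → B u' u' = 0 → B u u' = 0 →
      u ≠ 0 → u' ∉ F ∙ u → T (g u) = d • g u → T (g u') = d' • g u' → d = d' := by
    intro u u' d d' h1 h2 h3 h4 h5 h0 h6 h7 h8
    obtain ⟨d'', h9⟩ := hg (u + u') (by rw [map_add, h1, h2])
      (by simp [h3, h4, h5, h.eq_zero_comm.mp h5])
    rw [map_add, map_add, h7, h8, smul_add] at h9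
    have h10 : (d' - d'') • u' = (d'' - d) • u := g.injective (by
      rw [map_smul, map_smul]; linear_combination (norm := module) h9)
    have h11 : d' = d'' := by
      by_contra hne
      exact h6 ((Submodule.smul_mem_iff _ (sub_ne_zero.mpr hne)).mp
        (h10 ▸ Submodule.smul_mem _ _ (Submodule.mem_span_singleton_self u)))
    rw [h11, sub_self, zero_smul, eq_comm, smul_eq_zero, sub_eq_zero] at h10
    rw [h11, h10.resolve_right h0]
  obtain ⟨e, hTe, he, -, -, -, -, he0⟩ := R.exists_iso_notMem h hn (map_zero T) (map_zero T)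
    (map_zero T) (map_zero T) (Z := ⊥) (by simp)
  rw [Submodule.mem_bot] at he0
  obtain ⟨d, hd⟩ := hg e hTe he
  have k2 : ∀ u, T u = u → B u u = 0 → T (g u) = d • g u := fun u h1 h2 => by
    by_cases hu0 : u = 0
    · simp [hu0]
    obtain ⟨d', hd'⟩ := hg u h1 h2
    obtain ⟨x, h3, h4, h5, h6, -, -, h7⟩ := R.exists_iso_notMem h hn hTe h1 (map_zero T)
      (map_zero T) (Z := Submodule.span F {e, u}) ((finrank_span_pair_le e u).trans (by omega))
    obtain ⟨d'', hd''⟩ := hg x h3 h4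
    rw [hd', key u x d' d'' h1 h3 h2 h4 h6 hu0 (fun hm => h7 (Submodule.span_mono (by simp) hm))
      hd' hd'', key e x d d'' hTe h3 he h4 h5 he0 (fun hm => h7 (Submodule.span_mono (by simp) hm))
      hd hd'']
  let Z : Submodule F V :=
    { carrier := {v | T (g v) = d • g (T v)}
      add_mem' := fun {a b} ha hb => by
        simp only [Set.mem_ofPred_eq, map_add, smul_add] at ha hb ⊢; rw [ha, hb]
      zero_mem' := by simp
      smul_mem' := fun c a ha => by
        simp only [Set.mem_ofPred_eq, map_smul, R.smul] at ha ⊢; rw [ha, smul_comm] }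
  have hZ : ⊤ ≤ Z := by
    by_contra hne
    obtain ⟨u, -, h1, h2, h3⟩ := R.exists_iso_notMem_of_not_le h (W := ⊤) (fun _ _ => trivial)
      (by rw [finrank_top]; omega) hne
    exact h3 (by change T (g u) = d • g (T u); rw [h1, k2 u h1 h2])
  refine ⟨d, ?_, fun v => hZ trivial⟩
  rintro rfl
  obtain ⟨f, hf⟩ := h.exists_ne_zero (u := g e) (by simpa using he0)
  have := R.form (g e) f
  rw [hd, zero_smul, map_zero, LinearMap.zero_apply, eq_comm, mul_eq_zero] at this
  exact hf (by simpa [R.eps_ne] using this)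

omit hn [Finite F] in
/-- Rational Eichler maps. -/
theorem eichler_mem {e x : V} {γ : F} (hTe : T e = e) (hTx : T x = x) (hγ : τ γ = ε * γ)
    {he hew hwe} (hγ' : γ + σ γ + B (ζ • x) (ζ • x) = 0) :
    eichler B e (ζ • x) γ he hew hwe ∈ ratStab F T ⊓ SUG B := by
  refine ⟨mem_ratStab_of_comm fun v => ?_, h.eichler_mem_SUG _ _ _ hγ'⟩
  have := R.eps_sq
  simp only [eichler_apply, map_add, map_sub, R.smul, hTe, hTx, R.form_right hTe, R.form_right hTx,
    map_mul, hγ, R.zeta, LinearMap.map_smulₛₗ, LinearMap.smul_apply, smul_eq_mul, R.comm,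
    R.map_eps]
  match_scalars
  · rfl
  · ring
  · ring

omit hn [Finite F] in
theorem exists_eichler_mem {e x : V} (hTe : T e = e) (hTx : T x = x) (he : B e e = 0)
    (hex : B e x = 0) : ∃ g ∈ ratStab F T ⊓ SUG B, ∃ γ, τ γ = ε * γ ∧ IsEich B e (ζ • x) γ g := by
  obtain ⟨γ, h1, h2⟩ := R.tr x hTx
  have h3 : τ (ζ * σ ζ * γ) = ε * (ζ * σ ζ * γ) := by
    rw [map_mul, map_mul, R.comm, R.zeta, map_mul, R.map_eps, h1]
    linear_combination ε * ζ * σ ζ * γ * R.eps_sq
  refine ⟨_, R.eichler_mem h hTe hTx h3 (he := he) (hew := by simp [hex])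
    (hwe := by simp [LinearMap.map_smulₛₗ, h.eq_zero_comm.mp hex]) ?_, _, h3,
    isEich_eichler _ _ _ _ _ _⟩
  simp only [map_mul, h.invol, LinearMap.map_smulₛₗ, LinearMap.smul_apply, smul_eq_mul]
  linear_combination ζ * σ ζ * h2

omit hn [Finite F] in
theorem exists_eichler_zero_mem {e x : V} (hTe : T e = e) (hTx : T x = x) (he : B e e = 0)
    (hex : B e x = 0) (hx : B x x = 0) :
    ∃ g ∈ ratStab F T ⊓ SUG B, IsEich B e (ζ • x) 0 g :=
  ⟨_, R.eichler_mem h hTe hTx (by simp) (he := he) (hew := by simp [hex])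
    (hwe := by simp [LinearMap.map_smulₛₗ, h.eq_zero_comm.mp hex])
    (by simp [LinearMap.map_smulₛₗ, hx]), isEich_eichler _ _ _ _ _ _⟩

end RatStr

end Cfsg.Lib.Unitary
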