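import Cfsg.Agent.Lib.Unitary.MaxRat

/-!
# Maximality of subfield subgroups of `SU_n(q)`, `n ≥ 13`
-/

set_option autoImplicit false

namespace Cfsg.Lib.Unitary

open Module

variable {F V : Type*} [Field F] [AddCommGroup V] [Module F V] {σ : F →+* F}
  {B : V →ₛₗ[σ] V →ₗ[F] F} {q : ℕ}

/-- A subring containing the fixed field of an automorphism of prime order. -/
theorem subring_eq_top_of_prime [Finite F] {τ : F ≃+* F} (hτ : (orderOf τ).Prime) (S : Subring F)
    (hS : ∀ a, τ a = a → a ∈ S) {θ : F} (h1 : θ ∈ S) (h2 : τ θ ≠ θ) : S = ⊤ := by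
  have := Fintype.ofFinite (Subgroup.zpowers τ)
  let S' : Subalgebra (FixedPoints.subfield (Subgroup.zpowers τ) F) F :=
    { S with algebraMap_mem' := fun a => hS _ ((mem_fixedPoints_zpowers τ).mp a.2) }
  rcases (Subalgebra.isSimpleOrder_of_finrank_prime (FixedPoints.subfield (Subgroup.zpowers τ) F) F
    (by rwa [FixedPoints.finrank_eq_card, ← Nat.card_eq_fintype_card,
      Nat.card_zpowers])).eq_bot_or_eq_top S' with h | h
  · have h3 : θ ∈ S' := h1
    rw [h] at h3
    obtain ⟨a, rfl⟩ := Algebra.mem_bot.mp h3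
    exact absurd ((mem_fixedPoints_zpowers τ).mp a.2) h2
  · exact eq_top_iff.mpr fun a _ => (h ▸ Algebra.mem_top : a ∈ S')

theorem notMem_span_pair_swap {e x y : V} (hx : x ∉ F ∙ e) (hy : y ∉ Submodule.span F {e, x}) :
    x ∉ Submodule.span F {e, y} := fun hm => by
  obtain ⟨a, b, rfl⟩ := Submodule.mem_span_pair.mp hm
  have hb : b ≠ 0 := by
    rintro rfl
    exact hx (by simpa using Submodule.smul_mem _ a (Submodule.mem_span_singleton_self e))
  exact hy (Submodule.mem_span_pair.mpr ⟨-(a / b), b⁻¹, by match_scalars <;> field_simp <;> ring⟩)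

theorem notMem_span_swap {e x : V} (he : e ≠ 0) (hx : x ∉ F ∙ e) : e ∉ F ∙ x := by
  simpa using notMem_span_pair_swap (F := F) (e := 0) (x := e) (y := x) (by simpa) (by simpa)

namespace RatStr

variable {τ : F ≃+* F} {T : AddMonoid.End V} {ζ ε : F} (R : RatStr B τ T ζ ε) [Finite F]
  [FiniteDimensional F V] (h : IsHerm σ B) (hn : 13 ≤ finrank F V) {K : Subgroup (V ≃ₗ[F] V)}
  (hH : ratStab F T ⊓ SUG B ≤ K) (hK : K ≤ SUG B)
  {e : V} (hTe : T e = e) (he : B e e = 0)

include R hH in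
omit [Finite F] in
theorem zeta_smul_mem_AE (hTe : T e = e) {x : V} (hx : T x = x) (hex : B e x = 0) :
    ζ • x ∈ h.AE K he := by
  obtain ⟨g, hg, γ, -, e1⟩ := R.exists_eichler_mem h hTe hx he hex
  exact ⟨by simp [hex], g, hH hg, γ, e1⟩

include R hH hK in
omit [Finite F] in
theorem step_mem_AE {w u x : V} (hw : w ∈ h.AE K he) (hu : T u = u) (hx : T x = x)
    (huu : B u u = 0) (hxx : B x x = 0) (heu : B e u = 0) (hex : B e x = 0) (hux : B u x = 0) :
    (B u w * ζ) • x - (σ ζ * B x w) • u ∈ h.AE K he := by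
  obtain ⟨g, hg, e1⟩ := R.exists_eichler_zero_mem h hu hx huu hux hxx
  have := h.sub_mem_AE he (hK.trans SUG_le_UG) (hH hg) (by
    rw [e1]; simp [LinearMap.map_smulₛₗ, h.eq_zero_comm.mp heu, h.eq_zero_comm.mp hex]) hw
  convert this using 1
  rw [e1]
  simp only [LinearMap.map_smulₛₗ, LinearMap.smul_apply, smul_eq_mul]
  (module)

include R hn hH hK hTe in
theorem smul_mem_AE_of_one {θ : F} {x₀ : V} (h0 : θ • x₀ ∈ h.AE K he) (hT0 : T x₀ = x₀)
    (h00 : B x₀ x₀ = 0) (he0 : B e x₀ = 0) (hx₀ : x₀ ∉ F ∙ e) {x : V} (hx : T x = x)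
    (hex : B e x = 0) : θ • x ∈ h.AE K he := by
  have key : ∀ x₀ x : V, θ • x₀ ∈ h.AE K he → T x₀ = x₀ → T x = x → B x x = 0 → B e x = 0 →
      B x₀ x = 0 → x₀ ∉ Submodule.span F {e, x} → θ • x ∈ h.AE K he := by
    intro x₀ x h1 h2 h3 h4 h5 h6 h7
    obtain ⟨u, k1, k2, k3, k4, -, -, k5⟩ := R.exists_iso_orth h hn hTe h3 hTe hTe (y := x₀)
      (by simpa [Set.pair_comm] using h7)
    have k6 : B u x₀ ≠ 0 := fun h0 => k5 (h.eq_zero_comm.mp h0)
    have := R.step_mem_AE h hH hK he h1 k1 (x := (ζ * B u x₀)⁻¹ • x)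
      (R.fix_smul (by rw [map_inv₀, R.tau_zeta_form k1 h2]) h3) k2
      (by simp [LinearMap.map_smulₛₗ, h4]) k3 (by simp [h5]) (by simp [h.eq_zero_comm.mp k4])
    convert this using 1
    have := R.zeta_ne
    simp only [LinearMap.map_smulₛₗ, LinearMap.smul_apply, smul_eq_mul, map_smul,
      h.eq_zero_comm.mp h6]
    match_scalars
    · field_simp
    · ring
  have k2 : ∀ x : V, T x = x → B x x = 0 → B e x = 0 → θ • x ∈ h.AE K he := fun x h1 h2 h3 => by
    obtain ⟨y, k1, k2, k3, k4, k5, -, k6⟩ := R.exists_iso_notMem h hn hTe hT0 h1 hTe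
      (Z := Submodule.span F {e, x₀, x}) ((finrank_span_three_le _ _ _).trans (by omega))
    exact key y x (key x₀ y h0 hT0 k1 k2 k3 k4 (notMem_span_pair_swap hx₀ fun hm =>
      k6 (Submodule.span_mono (by simp [Set.insert_subset_iff]) hm))) k1 h1 h2 h3
      (h.eq_zero_comm.mp k5) fun hm => k6 (Submodule.span_mono (by simp [Set.insert_subset_iff]) hm)
  have h1 := h.finrank_add_finrank_perp (F ∙ e)
  have h2 := finrank_span_one_le (F := F) e
  obtain ⟨u₁, u₂, u₃, h1, h2, h3, rfl⟩ := R.exists_decomp h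
    (R.inv_perp (R.inv_span (s := {e}) (by simpa using hTe))) (by omega)
    (mem_perp_singleton.mpr hex) hx
  rw [smul_sub, smul_sub]
  exact sub_mem (sub_mem (k2 _ h1.2.1 h1.2.2 (mem_perp_singleton.mp h1.1))
    (k2 _ h2.2.1 h2.2.2 (mem_perp_singleton.mp h2.1)))
    (k2 _ h3.2.1 h3.2.2 (mem_perp_singleton.mp h3.1))

/-- The multipliers of the rational part of `AE`. -/
def RE (R : RatStr B τ T ζ ε) (h : IsHerm σ B) (K : Subgroup (V ≃ₗ[F] V)) {e : V}
    (he : B e e = 0) : AddSubgroup F where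
  carrier := {θ | ∀ x, T x = x → B e x = 0 → (θ * ζ) • x ∈ h.AE K he}
  zero_mem' := fun x _ _ => by simp
  add_mem' := fun {a b} ha hb x h1 h2 => by
    rw [add_mul, add_smul]; exact add_mem (ha x h1 h2) (hb x h1 h2)
  neg_mem' := fun {a} ha x h1 h2 => by rw [neg_mul, neg_smul]; exact neg_mem (ha x h1 h2)

omit [Finite F] [FiniteDimensional F V] in
theorem mul_mem_RE {θ a : F} (hθ : θ ∈ R.RE h K he) (ha : τ a = a) : θ * a ∈ R.RE h K he :=
  fun x h1 h2 => by
    have := hθ (a • x) (R.fix_smul ha h1) (by simp [h2])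
    rwa [smul_smul, mul_right_comm] at this

include hH hTe in
omit [Finite F] in
theorem one_mem_RE : 1 ∈ R.RE h K he := fun x h1 h2 => by
  rw [one_mul]; exact R.zeta_smul_mem_AE h hH he hTe h1 h2

include hn hH hK hTe in
theorem form_mem_RE {w u : V} (hw : w ∈ h.AE K he) (hu : T u = u) (huu : B u u = 0)
    (heu : B e u = 0) : B u w ∈ R.RE h K he := by
  obtain ⟨x, a1, a2, a3, a4, -, -, a5⟩ := R.exists_iso_notMem h hn hTe hu hTe hTe
    (Z := Submodule.span F {e, u}) ((finrank_span_pair_le _ _).trans (by omega))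
  obtain ⟨u', b1, b2, b3, b4, -, -, b5⟩ := R.exists_iso_orth h hn hTe hu hTe hTe (y := x)
    (by simpa [Set.pair_comm] using a5)
  obtain ⟨x', c1, c2, c3, c4, c5, c6, c7⟩ := R.exists_iso_notMem h hn hTe hu a1 b1
    (Z := F ∙ e) ((finrank_span_one_le _).trans (by omega))
  have b6 : ζ * B u' x ≠ 0 := mul_ne_zero R.zeta_ne fun h0 => b5 (h.eq_zero_comm.mp h0)
  have := R.step_mem_AE h hH hK he (R.step_mem_AE h hH hK he hw hu a1 huu a2 heu a3 a4) b1 c1 b2
    c2 b3 c3 c6
  intro y hy hey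
  refine R.smul_mem_AE_of_one h hn hH hK hTe he (x₀ := (ζ * B u' x) • x') ?_
    (R.fix_smul (R.tau_zeta_form b1 a1) c1) (by simp [LinearMap.map_smulₛₗ, c2]) (by simp [c3])
    (by rwa [Submodule.smul_mem_iff _ b6]) hy hey
  convert this using 1
  simp only [map_sub, map_smul, smul_eq_mul, h.eq_zero_comm.mp b4, h.eq_zero_comm.mp c4,
    h.eq_zero_comm.mp c5]
  (module)

include hn hH hK hTe in
theorem mul_mem_RE_of_orth {e₁ : V} (hT₁ : T e₁ = e₁) (he₁ : B e₁ e₁ = 0) (h1 : B e e₁ = 0)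
    (h2 : e ∉ F ∙ e₁) {θ θ' : F} (hθ : θ ∈ R.RE h K he₁) (hθ' : θ' ∈ R.RE h K he) :
    θ * θ' ∈ R.RE h K he₁ := by
  obtain ⟨x, a1, a2, a3, a4, -, -, a5⟩ := R.exists_iso_notMem h hn hTe hT₁ hTe hTe
    (Z := Submodule.span F {e₁, e}) ((finrank_span_pair_le _ _).trans (by omega))
  obtain ⟨-, g, hg, γ, e1⟩ := hθ' x a1 a3
  obtain ⟨y, b1, -, b3, b4, -, -, b5⟩ := R.exists_iso_orth h hn hT₁ a1 hT₁ hT₁ (y := e)
    (by simpa [Set.pair_comm] using notMem_span_pair_swap h2 a5)
  obtain ⟨u, c1, c2, c3, c4, -, -, c5⟩ := R.exists_iso_orth h hn hT₁ hTe hT₁ hT₁ (y := x)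
    (by simpa [Set.pair_comm] using a5)
  have c6 : B u x ≠ 0 := fun h0 => c5 (h.eq_zero_comm.mp h0)
  have := R.form_mem_RE h hn hH hK hT₁ he₁ (h.sub_mem_AE he₁ (hK.trans SUG_le_UG) hg (by
    rw [e1]; simp [LinearMap.map_smulₛₗ, h1, h.eq_zero_comm.mp a4]) (hθ y b1 b3)) c1 c2 c3
  have := R.mul_mem_RE h he₁ this (a := ((ζ * B e y) * (ζ * B u x))⁻¹)
    (by rw [map_inv₀, map_mul, R.tau_zeta_form hTe b1, R.tau_zeta_form c1 a1])
  convert this using 1
  have := R.zeta_ne
  rw [e1]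
  simp only [map_sub, map_add, map_smul, smul_eq_mul, LinearMap.map_smulₛₗ, LinearMap.smul_apply,
    b4, h.eq_zero_comm.mp c4]
  field_simp
  ring

include hn hH hK hTe in
theorem RE_le {e' : V} (he0 : e ≠ 0) (hT' : T e' = e') (he' : B e' e' = 0) :
    R.RE h K he ≤ R.RE h K he' := fun θ hθ => by
  obtain ⟨x, a1, a2, a3, a4, -, -, a5⟩ := R.exists_iso_notMem h hn hTe hT' hTe hTe
    (Z := Submodule.span F {e, e'}) ((finrank_span_pair_le _ _).trans (by omega))
  have h1 := R.mul_mem_RE_of_orth h hn hH hK hTe he a1 a2 a3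
    (notMem_span_swap he0 fun hm => a5 (Submodule.span_mono (by simp) hm))
    (R.one_mem_RE h hH a1 a2) hθ
  simpa using R.mul_mem_RE_of_orth h hn hH hK a1 a2 hT' he' (h.eq_zero_comm.mp a4)
    (fun hm => a5 (Submodule.span_mono (by simp) hm)) (R.one_mem_RE h hH hT' he') h1

include hn hH hK hTe in
theorem QE_le_of_RE (he0 : e ≠ 0) {θ : F} (hθ : θ ∈ R.RE h K he) (hθ' : τ θ ≠ θ) :
    QE B e ≤ K := by
  obtain ⟨x, a1, a2, a3, -, -, -, a5⟩ := R.exists_iso_notMem h hn hTe hTe hTe hTe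
    (Z := F ∙ e) ((finrank_span_one_le _).trans (by omega))
  let S : Subring F :=
    { R.RE h K he with
      one_mem' := R.one_mem_RE h hH hTe he
      mul_mem' := fun {a b} ha hb => R.mul_mem_RE_of_orth h hn hH hK a1 a2 hTe he
        (h.eq_zero_comm.mp a3) a5 ha (R.RE_le h hn hH hK hTe he he0 a1 a2 hb) }
  have hS := subring_eq_top_of_prime R.prime S
    (fun a ha => show a ∈ R.RE h K he by
      simpa using R.mul_mem_RE h he (R.one_mem_RE h hH hTe he) ha) hθ hθ'
  let Z : Submodule F V :=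
    { carrier := {w | ∀ t : F, t • w ∈ h.AE K he}
      add_mem' := fun {a b} ha hb t => by rw [smul_add]; exact add_mem (ha t) (hb t)
      zero_mem' := fun t => by simp
      smul_mem' := fun c a ha t => by rw [smul_smul]; exact ha _ }
  have hZ : perp B (F ∙ e) ≤ Z := by
    by_contra hne
    obtain ⟨u, h1, h2, h3⟩ := R.exists_fixed_notMem
      (R.inv_perp (R.inv_span (s := {e}) (by simpa using hTe))) hne
    refine h3 fun t => ?_
    have : t / ζ ∈ S := hS ▸ Subring.mem_top _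
    simpa [R.zeta_ne] using this u h2 (mem_perp_singleton.mp h1)
  exact h.QE_le_of_AE he (by omega) (hK.trans SUG_le_UG) he0 fun w hw => by
    simpa using hZ (mem_perp_singleton.mpr hw) 1

variable (hσ : IsBar q σ) (hK' : ¬ SUG B ≤ K)
include R hn hH hK hσ hK' hTe

/-- In a proper overgroup the Eichler maps at rational points are rational. -/
theorem sub_mem_of_mem_AE (he0 : e ≠ 0) {w : V} (hw : w ∈ h.AE K he) : T w - ε • w ∈ F ∙ e := by
  by_contra hne
  obtain ⟨u, a1, a2, a3, -, -, -, a5⟩ := R.exists_iso_orth h hn hTe hTe hTe hTe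
    (y := T w - ε • w) (by simpa using hne)
  have h1 := R.form_mem_RE h hn hH hK hTe he hw a1 a2 a3
  have h2 : τ (B u w) ≠ B u w := fun h0 => a5 (h.eq_zero_comm.mp (by
    rw [map_sub, R.form_right a1, h0]; simp))
  obtain ⟨f, b1, b2, b3⟩ := R.exists_partner h hn he0 hTe he
  exact hK' (h.SUG_le_of_QE_QE he hσ (by omega) (hK.trans SUG_le_UG) b2 b3
    (R.QE_le_of_RE h hn hH hK hTe he he0 h1 h2)
    (R.QE_le_of_RE h hn hH hK b1 b2 (by rintro rfl; simp at b3)
      (R.RE_le h hn hH hK hTe he he0 b1 b2 h1) h2))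

include h in
theorem tau_eq_of_transv (he0 : e ≠ 0) {c : F} {hc} (ht : transv B e c he hc ∈ K) :
    τ c = ε * c := by
  obtain ⟨x, a1, a2, a3, -, -, -, a5⟩ := R.exists_iso_notMem h hn hTe hTe hTe hTe
    (Z := F ∙ e) ((finrank_span_one_le _).trans (by omega))
  have hx0 : x ≠ 0 := by rintro rfl; simp at a5
  obtain ⟨u, b1, b2, b3, -, -, -, b5⟩ := R.exists_iso_orth h hn a1 a1 a1 a1 (y := e)
    (by simpa using notMem_span_swap he0 a5)
  have b6 : ζ * B u e ≠ 0 := mul_ne_zero R.zeta_ne fun h0 => b5 (h.eq_zero_comm.mp h0)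
  obtain ⟨g, hg, e1⟩ := R.exists_eichler_zero_mem h b1 (x := (ζ * B u e)⁻¹ • x)
    (R.fix_smul (by rw [map_inv₀, R.tau_zeta_form b1 hTe]) a1) b2
    (by simp [h.eq_zero_comm.mp b3]) (by simp [LinearMap.map_smulₛₗ, a2])
  have hge : g e = e + x := by
    rw [e1]
    simp only [LinearMap.map_smulₛₗ, LinearMap.smul_apply, smul_eq_mul, h.eq_zero_comm.mp a3]
    match_scalars
    · rfl
    · field_simp [left_ne_zero_of_mul b6, right_ne_zero_of_mul b6]
    · ring
  have h1 := mul_mem (mul_mem (hH hg) ht) (inv_mem (hH hg))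
  rw [conj_transv hg.2.1] at h1
  simp only [hge] at h1
  have h2 := R.sub_mem_of_mem_AE h hn hH hK a1 a2 hσ hK' hx0
    (h.smul_mem_AE_of_transv a2 he hc (h.eq_zero_comm.mp a3) ht h1)
  rw [R.smul, hTe, smul_smul, ← sub_smul] at h2
  by_contra hne
  exact notMem_span_swap he0 a5 ((Submodule.smul_mem_iff _ (sub_ne_zero.mpr hne)).mp h2)

include h he in
/-- The stabiliser in a proper overgroup of a rational isotropic point is rational. -/
theorem mem_ratStab_of_stab (he0 : e ≠ 0) {m : V ≃ₗ[F] V} (hm : m ∈ K) {a : F}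
    (hme : m e = a • e) : m ∈ ratStab F T := by
  obtain ⟨f₀, b1, b2, b3⟩ := R.exists_partner h hn he0 hTe he
  have ha : a ≠ 0 := by rintro rfl; exact he0 (m.injective (by simpa using hme))
  have ha' : σ a ≠ 0 := (map_ne_zero σ).mpr ha
  have ha'' : τ (σ a) ≠ 0 := (map_ne_zero τ).mpr ha'
  set f := (B e f₀)⁻¹ • f₀ with hfdef
  have hef : B e f = 1 := by simp [hfdef, b3]
  have hf : B f f = 0 := by simp [hfdef, LinearMap.map_smulₛₗ, b2]
  have hTf : T f = ε • f := by
    rw [hfdef, R.smul, b1, map_inv₀, R.tau_form hTe b1, smul_smul, mul_inv,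
      inv_eq_of_mul_eq_one_right R.eps_sq]
  have hU : ∀ w ∈ hypPerp B e f, T w ∈ hypPerp B e f := R.inv_perp (R.inv_span' (by
    simp only [Set.mem_insert_iff, Set.mem_singleton_iff, forall_eq_or_imp, forall_eq, hTe, hTf]
    exact ⟨Submodule.subset_span (by simp), Submodule.smul_mem _ _ (Submodule.subset_span (by simp))⟩))
  have hUe : ∀ w ∈ hypPerp B e f, w ∈ F ∙ e → w = 0 := fun w hw hw' => by
    obtain ⟨t, rfl⟩ := Submodule.mem_span_singleton.mp hw'
    have := (mem_hypPerp.mp hw).2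
    rw [map_smul, ← h.symm, hef, map_one, smul_eq_mul, mul_one] at this
    rw [this, zero_smul]
  obtain ⟨y, hy, hyf⟩ := h.exists_QE_mul he hf hef (hK hm).1 hme
  have hyS := h.QE_le_SUG he0 he hy
  have hl : y * m ∈ SUG B := mul_mem hyS (hK hm)
  have hle : (y * m) e = a • e := by rw [LinearEquiv.mul_apply, hme, map_smul, hy.2.1]
  have hlU : ∀ w ∈ hypPerp B e f, (y * m) w ∈ hypPerp B e f := fun w hw => by
    simpa using smul_apply_mem_hypPerp hl.1 ha (inv_ne_zero ha') hle hyf 1 ⟨w, hw⟩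
  set d := σ a / τ (σ a) with hd
  let Z : Submodule F V :=
    { carrier := {v | T ((y * m) v) = d • (y * m) (T v)}
      add_mem' := fun {a b} ha hb => by
        simp only [Set.mem_ofPred_eq, map_add, smul_add] at ha hb ⊢; rw [ha, hb]
      zero_mem' := by simp
      smul_mem' := fun c a ha => by
        simp only [Set.mem_ofPred_eq, map_smul, R.smul] at ha ⊢; rw [ha, smul_comm] }
  have hZ : hypPerp B e f ≤ Z := by
    by_contra hne
    obtain ⟨u, h1, h2, h3⟩ := R.exists_fixed_notMem hU hne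
    refine h3 ?_
    have h4 := R.sub_mem_of_mem_AE h hn hH hK hTe he hσ hK' he0 (h.conj_mem_AE he
      (hK.trans SUG_le_UG) he hm ha hme (R.zeta_smul_mem_AE h hH he hTe h2 (mem_hypPerp.mp h1).1))
    obtain ⟨t, ht⟩ := hy.2.2 (m u) (by
      have := (hK hm).1 e u
      rw [hme, (mem_hypPerp.mp h1).1] at this
      simpa [LinearMap.map_smulₛₗ, ha] using this)
    have h5 := hUe (T ((y * m) u) - d • (y * m) u) (sub_mem (hU _ (hlU u h1))
      (Submodule.smul_mem _ _ (hlU u h1))) (by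
        have e1 : T ((y * m) u) - d • (y * m) u = (τ (σ a) * ε * ζ)⁻¹ •
            (T (σ a • m (ζ • u)) - ε • σ a • m (ζ • u)) + (τ t - d * t) • e := by
          have := R.zeta_ne
          have := R.eps_ne
          simp only [LinearEquiv.mul_apply, ht, map_add, map_smul, R.smul, hTe, R.zeta, hd]
          match_scalars <;> field_simp
        rw [e1]
        exact add_mem (Submodule.smul_mem _ _ h4)
          (Submodule.smul_mem _ _ (Submodule.mem_span_singleton_self e)))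
    change T _ = d • (y * m) (T u)
    rw [h2]
    exact sub_eq_zero.mp h5
  have hdd : d * σ d = 1 := by
    have h1 := h.finrank_hypPerp he hef
    obtain ⟨u, hu0⟩ := @exists_ne (hypPerp B e f)
      (Module.nontrivial_of_finrank_pos (R := F) (by omega)) 0
    obtain ⟨v, hv⟩ := (h.isHerm_hypPerp he hef).exists_eq_one hu0
    have h2 := R.form ((y * m) u) ((y * m) v)
    rw [hZ u.2, hZ v.2, hl.1 u v] at h2
    simp only [map_smul, LinearMap.map_smulₛₗ, LinearMap.smul_apply, smul_eq_mul] at h2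
    rw [hl.1, R.form, show B u v = 1 from hv, map_one, mul_one, ← mul_assoc] at h2
    exact mul_right_cancel₀ R.eps_ne (by rw [h2, one_mul])
  have hda : τ a = d * a := by
    rw [hd, map_div₀, h.invol, ← R.comm, h.invol] at hdd
    have : τ a ≠ 0 := (map_ne_zero τ).mpr ha
    rw [hd]
    field_simp at hdd ⊢
    linear_combination -hdd
  have hlT : y * m ∈ ratStab F T := by
    refine ⟨d, div_ne_zero ha' ha'', fun v => ?_⟩
    obtain ⟨w, h1, h2, e1⟩ := h.hyp_decomp he hf hef v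
    have h3 : e ∈ Z := by
      change T _ = d • (y * m) (T e)
      rw [hTe, hle, R.smul, hTe, hda, smul_smul]
    have h4 : f ∈ Z := by
      change T (y (m f)) = d • (y * m) (T f)
      rw [hTf, map_smul (y * m), LinearEquiv.mul_apply, hyf, R.smul, hTf, map_inv₀, hd]
      match_scalars
      field_simp
    have : v ∈ Z := e1 ▸ add_mem (add_mem (hZ (mem_hypPerp.mpr ⟨h1, h2⟩)) (Z.smul_mem _ h3))
      (Z.smul_mem _ h4)
    exact this
  have hyK : y ∈ K := by simpa using mul_mem (hH ⟨hlT, hl⟩) (inv_mem hm)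
  suffices hyT : y ∈ ratStab F T by simpa using mul_mem (inv_mem hyT) hlT
  obtain ⟨z, γ, hez, hze, hfz, hγ, rfl⟩ := h.exists_eichler_of_mem_QE he hf hef hy
  have hz : z ∈ hypPerp B e f := mem_hypPerp.mpr ⟨hez, hfz⟩
  have h1 := hUe _ (sub_mem (hU z hz) (Submodule.smul_mem _ ε hz))
    (R.sub_mem_of_mem_AE h hn hH hK hTe he hσ hK' he0 (h.mem_AE_of_eichler he hyK))
  obtain ⟨x, rfl⟩ : ∃ x, z = ζ • x := ⟨ζ⁻¹ • z, by simp [R.zeta_ne]⟩
  have hTx : T x = x := by
    rw [R.smul, R.zeta, smul_smul, ← smul_sub, smul_eq_zero, sub_eq_zero] at h1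
    exact h1.resolve_left (mul_ne_zero R.eps_ne R.zeta_ne)
  obtain ⟨g, hg, γ', hγ', e1⟩ := R.exists_eichler_mem h hTe hTx he
    (by simpa [R.zeta_ne] using hez)
  have h2 := h.gamma_eq_of_isEich he he0 hez hg.2.1 e1
  have h3 : transv B e (γ - γ') he (by rw [map_sub]; linear_combination hγ - h2) ∈ K := by
    convert mul_mem (inv_mem (hH hg)) hyK using 1
    rw [eq_inv_mul_iff_mul_eq, e1.eq he hez hze, ← eichler_zero e _ he _ (by simp) (by simp),
      eichler_mul]
    exact eichler_congr rfl (by simp) (by simp)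
  have h4 := R.tau_eq_of_transv h hn hH hK hTe he hσ hK' he0 h3
  exact (R.eichler_mem h hTe hTx (by rw [map_sub, hγ'] at h4; linear_combination h4) hγ).1

end RatStr

end Cfsg.Lib.Unitary
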