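import Cfsg.Agent.Lib.Unitary.MaxSub

/-!
# Maximality of subfield subgroups of `SU_n(q)`, `n ≥ 13`: the final steps
-/

set_option autoImplicit false

namespace Cfsg.Lib.Unitary

open Module

variable {F V : Type*} [Field F] [AddCommGroup V] [Module F V] {σ : F →+* F}
  {B : V →ₛₗ[σ] V →ₗ[F] F} {q : ℕ}

theorem transv_pow_char (p : ℕ) [CharP F p] (u : V) (c : F) (hu : B u u = 0) (hc : c + σ c = 0) :
    transv B u c hu hc ^ p = 1 := by
  have : ∀ k : ℕ, ∀ v, (transv B u c hu hc ^ k) v = v + (k * c * B u v) • u := fun k => by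
    induction k with
    | zero => simp
    | succ k ih =>
      intro v
      rw [pow_succ, LinearEquiv.mul_apply, ih]
      simp only [transv_apply, map_add, map_smul, hu, smul_eq_mul, Nat.cast_succ]
      (module)
  ext v
  simp [this]

/-- An isometry fixing `W^⊥` pointwise moves vectors inside `W`. -/
theorem IsHerm.sub_mem_of_fix [FiniteDimensional F V] (h : IsHerm σ B) {W : Submodule F V}
    {g : V ≃ₗ[F] V} (hg : g ∈ UG B) (hW : ∀ x ∈ perp B W, g x = x) (v : V) : g v - v ∈ W := by
  rw [← h.perp_perp W]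
  intro x hx
  change B _ _ = 0
  rw [map_sub]
  conv_lhs => rw [← hW x hx, hg, hW x hx, sub_self]

open Pointwise in
/-- Two opposite transvections generate an element moving one centre to the other. -/
theorem IsHerm.exists_swap [Finite F] [FiniteDimensional F V] (h : IsHerm σ B)
    {K : Subgroup (V ≃ₗ[F] V)} (hK : K ≤ UG B) {e v : V} {c c' : F} {he hc hv hc'}
    (hc0 : c ≠ 0) (hc0' : c' ≠ 0) (hev : B e v ≠ 0) (h1 : transv B e c he hc ∈ K)
    (h2 : transv B v c' hv hc' ∈ K) :
    ∃ k ∈ K, (∃ a : F, k e = a • v) ∧ ∀ x, B e x = 0 → B v x = 0 → k x = x := by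
  have := finite_linearEquiv (F := F) (V := V)
  obtain ⟨p, hp⟩ := CharP.exists F
  have : Fact p.Prime := ⟨CharP.char_is_prime F p⟩
  let G := K ⊓ fixStab (perp B (Submodule.span F {e, v}))
  have key : ∀ (a b : V) (d : F) ha hd, d ≠ 0 → B a b ≠ 0 → ∀ w, w ≠ 0 →
      w ∈ Submodule.span F {a, b} → transv B a d ha hd w ∈ F ∙ w → F ∙ w = F ∙ a := by
    intro a b d ha hd hd0 hab w hw0 hw h3
    have ha0 : a ≠ 0 := by rintro rfl; simp at hab
    by_cases h4 : B a w = 0
    · obtain ⟨s, t, rfl⟩ := Submodule.mem_span_pair.mp hw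
      have : t = 0 := by simpa [ha, hab] using h4
      subst this
      rw [zero_smul, add_zero] at hw0 ⊢
      exact Submodule.span_singleton_smul_eq (left_ne_zero_of_smul hw0).isUnit a
    · rw [transv_apply, Submodule.add_mem_iff_right _ (Submodule.mem_span_singleton_self w),
        Submodule.smul_mem_iff _ (mul_ne_zero hd0 h4)] at h3
      obtain ⟨s, rfl⟩ := Submodule.mem_span_singleton.mp h3
      exact (Submodule.span_singleton_smul_eq (left_ne_zero_of_smul ha0).isUnit w).symm
  have he0 : e ≠ 0 := by rintro rfl; simp at hev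
  have hsm : ∀ (g : G) (w : V), g • (F ∙ w) = F ∙ g.1 w := fun g w => by
    rw [Subgroup.smul_def, Submodule.smul_span, Set.smul_set_singleton]; rfl
  have hG : ∀ g : G, g.1 e ∈ Submodule.span F {e, v} := fun g => by
    simpa using add_mem (h.sub_mem_of_fix (hK g.2.1) g.2.2 e)
      (Submodule.subset_span (by simp) : e ∈ Submodule.span F {e, v})
  obtain ⟨g, hg⟩ := exists_fixed_in_orbit (G := G) (p := p)
    (s := ⟨_, h1, fun x hx => by simp [mem_perp_span.mp hx e (by simp)]⟩)
    (t := ⟨_, h2, fun x hx => by simp [mem_perp_span.mp hx v (by simp)]⟩)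
    (Subtype.ext (transv_pow_char p e c he hc)) (Subtype.ext (transv_pow_char p v c' hv hc'))
    (x := F ∙ e)
    (by rw [hsm]; simp [he]) (fun g hg => by
      rw [hsm, hsm] at hg
      rw [hsm]
      exact key e v c he hc hc0 hev _ (by simpa using he0) (hG g)
        (hg ▸ Submodule.mem_span_singleton_self _))
  rw [hsm, hsm] at hg
  have := key v e c' hv hc' hc0' (fun h0 => hev (h.eq_zero_comm.mp h0)) _ (by simpa using he0)
    (Set.pair_comm e v ▸ hG g) (hg ▸ Submodule.mem_span_singleton_self _)
  obtain ⟨a, ha⟩ := Submodule.mem_span_singleton.mp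
    (this ▸ Submodule.mem_span_singleton_self _ : g.1 e ∈ F ∙ v)
  exact ⟨g, g.2.1, ⟨a, ha.symm⟩, fun x h1 h2 => g.2.2 x (mem_perp_span.mpr (by simp [h1, h2]))⟩

namespace RatStr

variable {τ : F ≃+* F} {T : AddMonoid.End V} {ζ ε : F} (R : RatStr B τ T ζ ε) [Finite F]
  [FiniteDimensional F V] (h : IsHerm σ B) (hn : 13 ≤ finrank F V) {K : Subgroup (V ≃ₗ[F] V)}
  (hH : ratStab F T ⊓ SUG B ≤ K) (hK : K ≤ SUG B) (hσ : IsBar q σ)
include R h hn

omit [Finite F] hn in
/-- A transvection commuting with `T` has a rational centre. -/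
theorem rat_of_transv {v : V} {c : F} {hv hc} (hc0 : c ≠ 0)
    (hT : ∀ x, T (transv B v c hv hc x) = transv B v c hv hc (T x)) : T v ∈ F ∙ v := by
  by_cases hv0 : v = 0
  · simp [hv0]
  obtain ⟨x, hx⟩ := h.exists_eq_one hv0
  have := hT x
  rw [transv_apply, transv_apply, map_add, R.smul, hx, mul_one, add_right_inj] at this
  exact (Submodule.smul_mem_iff _ ((map_ne_zero τ).mpr hc0)).mp
    (this ▸ Submodule.smul_mem _ _ (Submodule.mem_span_singleton_self v))

theorem exists_theta : ∃ θ, τ θ ≠ θ := by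
  by_contra hne
  push Not at hne
  have : τ = 1 := RingEquiv.ext hne
  have h1 := R.prime
  rw [this, orderOf_one] at h1
  exact Nat.not_prime_one h1

theorem not_SUG_le : ¬ SUG B ≤ ratStab F T := fun hle => by
  obtain ⟨e, hTe, he, -, -, -, -, he0⟩ := R.exists_iso_notMem h hn (map_zero T) (map_zero T)
    (map_zero T) (map_zero T) (Z := ⊥) (by simp)
  rw [Submodule.mem_bot] at he0
  obtain ⟨e', a1, a2, a3, -, -, -, a4⟩ := R.exists_iso_notMem h hn hTe hTe hTe hTe (Z := F ∙ e)
    ((finrank_span_one_le _).trans (by omega))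
  obtain ⟨θ, hθ⟩ := R.exists_theta h hn
  obtain ⟨δ, hδ0, hδ⟩ := h.exists_skew
  have hv : B (e + θ • e') (e + θ • e') = 0 := by
    simp [LinearMap.map_smulₛₗ, he, a2, a3, h.eq_zero_comm.mp a3]
  have h1 := R.rat_of_transv h hδ0 (comm_of_mem_ratStab
    (hle (h.transv_mem_SUG _ δ hv (by simp [hδ]))) he0 hTe
    (by simp [LinearMap.map_smulₛₗ, he, h.eq_zero_comm.mp a3]))
  obtain ⟨d, hd⟩ := Submodule.mem_span_singleton.mp h1
  rw [map_add, R.smul, hTe, a1] at hd
  have h2 : (d * θ - τ θ) • e' = (1 - d) • e := by linear_combination (norm := module) hd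
  have h3 : d * θ - τ θ = 0 := by
    by_contra hne
    exact a4 ((Submodule.smul_mem_iff _ hne).mp
      (h2 ▸ Submodule.smul_mem _ _ (Submodule.mem_span_singleton_self e)))
  rw [h3, zero_smul, eq_comm, smul_eq_zero, sub_eq_zero] at h2
  rw [← h2.resolve_right he0] at h3
  exact hθ (by linear_combination -h3)

include hH hK hσ

/-- The case of a quadratic extension. -/
theorem max_two (h2 : orderOf τ = 2) : K ≤ ratStab F T ∨ SUG B ≤ K := by
  refine or_iff_not_imp_right.mpr fun hK' g hg => R.mem_ratStab_of_points h hn fun a hTa ha => ?_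
  have hTT : ∀ v, T (T v) = v := fun v => by
    have := R.pow
    rw [h2, sq] at this
    exact DFunLike.congr_fun this v
  have hgU := (hK hg).1
  by_cases ha0 : a = 0
  · exact ⟨0, by simp [ha0]⟩
  have key : ∀ b, T b = b → B b b = 0 → B a b = 0 → b ∉ F ∙ a →
      T (g a) ∈ Submodule.span F {g a, g b} := by
    intro b hTb hb hab hba
    obtain ⟨x, hx, e1⟩ := R.exists_eichler_zero_mem h hTa hTb ha hab hb
    obtain ⟨e, a1, a2, a3, a4⟩ := R.exists_iso_perp h hn
      (W := Submodule.span F {g a, T (g a), g b, T (g b)}) (Z := ⊥)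
      (R.inv_span' (by simp [hTT, Submodule.mem_span_of_mem])) (finrank_span_four_le ..) (by simp)
    rw [mem_perp_span] at a1
    have hy : ∀ v, (g * x * g⁻¹) v = v + (ζ * B (g a) v) • g b - (σ ζ * B (g b) v) • g a :=
      fun v => by
        rw [LinearEquiv.mul_apply, LinearEquiv.mul_apply, e1, ← UG_apply_left hgU,
          ← UG_apply_left hgU]
        simp only [map_add, map_sub, map_smul, LinearMap.map_smulₛₗ, LinearMap.smul_apply,
          smul_eq_mul, LinearEquiv.coe_inv, LinearEquiv.apply_symm_apply]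
        (module)
    have hye : (g * x * g⁻¹) e = e := by simp [hy, a1 (g a), a1 (g b)]
    have hc := comm_of_mem_ratStab (R.mem_ratStab_of_stab h hn hH hK a2 a3 hσ hK' a4
      (mul_mem (mul_mem hg (hH hx)) (inv_mem hg)) (a := 1) (by rw [hye, one_smul])) a4 a2 hye
    obtain ⟨v, hv1, hv2⟩ : ∃ v, B (g a) v = 0 ∧ B (g b) v ≠ 0 := by
      by_contra hcon
      push Not at hcon
      refine hba ?_
      rw [← h.perp_perp (F ∙ a)]
      intro w hw
      exact h.eq_zero_comm.mp ((hgU b w).symm.trans (hcon (g w)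
        ((hgU a w).trans (mem_perp_singleton.mp hw))))
    have h3 := hc v
    rw [hy, hy, hv1, mul_zero, zero_smul, add_zero, map_sub, R.smul] at h3
    refine (Submodule.smul_mem_iff _ ((map_ne_zero τ).mpr
      (mul_ne_zero ((map_ne_zero σ).mpr R.zeta_ne) hv2))).mp (Submodule.mem_span_pair.mpr
        ⟨σ ζ * B (g b) (T v), -(ζ * B (g a) (T v)), ?_⟩)
    linear_combination (norm := module) h3
  obtain ⟨b, b1, b2, b3, -, -, -, b4⟩ := R.exists_iso_notMem h hn hTa hTa hTa hTa (Z := F ∙ a)
    ((finrank_span_one_le _).trans (by omega))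
  obtain ⟨b', c1, c2, c3, -, -, -, c4⟩ := R.exists_iso_notMem h hn hTa hTa hTa hTa
    (Z := Submodule.span F {a, b}) ((finrank_span_pair_le _ _).trans (by omega))
  obtain ⟨s, t, e1⟩ := Submodule.mem_span_pair.mp (key b b1 b2 b3 b4)
  obtain ⟨s', t', e2⟩ := Submodule.mem_span_pair.mp (key b' c1 c2 c3 fun hm =>
    c4 (Submodule.span_mono (by simp) hm))
  refine ⟨s', ?_⟩
  have h3 : t' • b' = (s - s') • a + t • b := g.injective (by
    simp only [map_add, map_smul]; linear_combination (norm := module) e2 - e1)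
  have h4 : t' = 0 := by
    by_contra hne
    exact c4 ((Submodule.smul_mem_iff _ hne).mp (Submodule.mem_span_pair.mpr ⟨_, _, h3.symm⟩))
  rw [← e2, h4, zero_smul, add_zero]

/-- The case where the subfield group contains transvections. -/
theorem max_transv {c : F} (hc0 : c ≠ 0) (hc : c + σ c = 0) (hτc : τ c = ε * c) :
    K ≤ ratStab F T ∨ SUG B ≤ K := by
  refine or_iff_not_imp_right.mpr fun hK' g hg => R.mem_ratStab_of_points h hn fun u hTu hu => ?_
  have hKU := hK.trans SUG_le_UG
  have ht : ∀ e, T e = e → ∀ he : B e e = 0, transv B e c he hc ∈ K := fun e hTe he => by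
    have := R.eichler_mem h hTe (map_zero T) hτc (he := he) (hew := by simp) (hwe := by simp)
      (by simpa using hc)
    rw [eichler_congr (he' := he) (hew' := by simp) (hwe' := by simp) rfl (smul_zero ζ) rfl,
      eichler_zero e c he hc] at this
    exact hH this
  have hv : B (g u) (g u) = 0 := (hKU hg u u).trans hu
  have htv : transv B (g u) c hv hc ∈ K := by
    rw [← conj_transv (hKU hg) u c hu hc]
    exact mul_mem (mul_mem hg (ht u hTu hu)) (inv_mem hg)
  generalize g u = v at hv htv
  by_contra hne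
  have hno : ∀ e, T e = e → B e e = 0 → e ≠ 0 → B v e ≠ 0 := fun e hTe he he0 hve => by
    have h1 : transv B v c hv hc e = e := by simp [hve]
    obtain ⟨d, hd⟩ := Submodule.mem_span_singleton.mp (R.rat_of_transv h hc0 (comm_of_mem_ratStab
      (R.mem_ratStab_of_stab h hn hH hK hTe he hσ hK' he0 htv (a := 1) (by rw [h1, one_smul]))
      he0 hTe h1))
    exact hne ⟨d, hd.symm⟩
  obtain ⟨e, hTe, he, -, -, -, -, he0⟩ := R.exists_iso_notMem h hn (map_zero T) (map_zero T)
    (map_zero T) (map_zero T) (Z := ⊥) (by simp)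
  rw [Submodule.mem_bot] at he0
  obtain ⟨e', a1, a2, a3, -, -, -, a4⟩ := R.exists_iso_notMem h hn hTe hTe hTe hTe (Z := F ∙ e)
    ((finrank_span_one_le _).trans (by omega))
  have he0' : e' ≠ 0 := by rintro rfl; simp at a4
  obtain ⟨k, hk, ⟨a, hka⟩, hk'⟩ := h.exists_swap hKU hc0 hc0
    (fun h0 => hno e hTe he he0 (h.eq_zero_comm.mp h0)) (ht e hTe he) htv
  obtain ⟨l, hl, ⟨b, hlb⟩, hl'⟩ := h.exists_swap hKU hc0 hc0 (hno e' a1 a2 he0') htv (ht e' a1 a2)
  have hm : l * k ∈ K := mul_mem hl hk
  have hme : (l * k) e = (a * b) • e' := by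
    rw [LinearEquiv.mul_apply, hka, map_smul, hlb, smul_smul]
  have hfix : ∀ x ∈ perp B (Submodule.span F {e, e', v}), (l * k) x = x := fun x hx => by
    rw [mem_perp_span] at hx
    rw [LinearEquiv.mul_apply, hk' x (hx e (by simp)) (hx v (by simp)),
      hl' x (hx v (by simp)) (hx e' (by simp))]
  generalize l * k = m at hm hme hfix
  have hmT : m ∈ ratStab F T := by
    obtain ⟨w, b1, b2, b3, -, -, -, b5⟩ := R.exists_iso_orth h hn (a := e - e')
      (by rw [map_sub, hTe, a1]) (map_zero T) (map_zero T) (map_zero T) (y := e') (by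
        intro hm
        simp only [Set.mem_singleton_iff, Set.insert_eq_of_mem, Submodule.span_insert_zero,
          Set.pair_comm] at hm
        obtain ⟨s, hs⟩ := Submodule.mem_span_singleton.mp hm
        have h1 : (1 + s) • e' = s • e := by linear_combination (norm := module) -hs
        have h2 : 1 + s = 0 := by
          by_contra hne
          exact a4 ((Submodule.smul_mem_iff _ hne).mp
            (h1 ▸ Submodule.smul_mem _ _ (Submodule.mem_span_singleton_self e)))
        rw [h2, zero_smul, eq_comm, smul_eq_zero] at h1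
        simp [h1.resolve_right he0] at h2)
    have b6 : ζ * B w e' ≠ 0 := mul_ne_zero R.zeta_ne fun h0 => b5 (h.eq_zero_comm.mp h0)
    obtain ⟨x, hx, e1⟩ := R.exists_eichler_zero_mem h b1 (x := (ζ * B w e')⁻¹ • (e - e'))
      (R.fix_smul (by rw [map_inv₀, R.tau_zeta_form b1 a1]) (by rw [map_sub, hTe, a1])) b2
      (by rw [map_smul, h.eq_zero_comm.mp b3, smul_zero])
      (by simp [LinearMap.map_smulₛₗ, a2, a3, he, h.eq_zero_comm.mp a3])
    have hxe : x e' = e := by
      rw [e1]
      simp only [LinearMap.map_smulₛₗ, LinearMap.smul_apply, smul_eq_mul, map_sub,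
        LinearMap.sub_apply, a2, a3]
      match_scalars <;> field_simp [left_ne_zero_of_mul b6, right_ne_zero_of_mul b6] <;> ring
    have := R.mem_ratStab_of_stab h hn hH hK hTe he hσ hK' he0 (mul_mem (hH hx) hm) (a := a * b)
      (by rw [LinearEquiv.mul_apply, hme, map_smul, hxe])
    simpa using mul_mem (inv_mem (show x ∈ ratStab F T from hx.1)) this
  obtain ⟨d, -, hd⟩ := hmT
  obtain ⟨v', hv'⟩ := R.surj v
  have hd1 : d = 1 := by
    have h1 := h.finrank_add_finrank_perp (Submodule.span F {e, e', v, v'})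
    have h2 := finrank_span_four_le (F := F) e e' v v'
    obtain ⟨⟨x, hx⟩, hx0⟩ := @exists_ne (perp B (Submodule.span F {e, e', v, v'}))
      (Module.nontrivial_of_finrank_pos (R := F) (by omega)) 0
    rw [mem_perp_span] at hx
    have h3 := hd x
    rw [hfix x (mem_perp_span.mpr (by simp [hx])), hfix (T x) (mem_perp_span.mpr (by
      simp only [Set.mem_insert_iff, Set.mem_singleton_iff, forall_eq_or_imp, forall_eq,
        R.form_right hTe, R.form_right a1]
      rw [← hv', R.form]
      simp [hx]))] at h3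
    by_contra hne
    have h4 : T x = 0 := by
      have : (d - 1) • T x = 0 := by linear_combination (norm := module) -h3
      exact (smul_eq_zero.mp this).resolve_left (sub_ne_zero.mpr hne)
    refine hx0 (Subtype.ext (h.nondeg x fun y => ?_))
    have := R.form x y
    rw [h4] at this
    simpa [R.eps_ne] using this
  simp only [hd1, one_smul] at hd
  have hsub := h.sub_mem_of_fix (hKU hm) hfix
  by_cases hcase : ∀ y, B (m y - y) e = 0
  · have h1 : m e = e := sub_eq_zero.mp (h.nondeg_right _ fun y => by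
      obtain ⟨y, rfl⟩ := m.surjective y
      have := hcase y
      rw [map_sub, hKU hm]
      rw [map_sub, LinearMap.sub_apply] at this
      linear_combination -this)
    exact notMem_span_swap he0 a4 (h1.symm.trans hme ▸ Submodule.smul_mem _ _
      (Submodule.mem_span_singleton_self e'))
  · push Not at hcase
    obtain ⟨y, hy⟩ := hcase
    obtain ⟨α, β, γ, e1⟩ := Submodule.mem_span_triple.mp (hsub y)
    have hγ : γ ≠ 0 := by
      rintro rfl
      exact hy (by rw [← e1]; simp [LinearMap.map_smulₛₗ, he, h.eq_zero_comm.mp a3])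
    have hTv : T v ∈ Submodule.span F {e, e', v} := by
      refine (Submodule.smul_mem_iff _ ((map_ne_zero τ).mpr hγ)).mp ?_
      have h1 := congrArg T e1
      rw [map_sub, hd, map_add, map_add, R.smul, R.smul, R.smul, hTe, a1] at h1
      rw [show τ γ • T v = (m (T y) - T y) - τ α • e - τ β • e' by rw [← h1]; module]
      exact sub_mem (sub_mem (hsub _) (Submodule.smul_mem _ _ (Submodule.subset_span (by simp))))
        (Submodule.smul_mem _ _ (Submodule.subset_span (by simp)))
    obtain ⟨w, b1, b2, b3, b4⟩ := R.exists_iso_perp h hn (W := Submodule.span F {e, e', v})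
      (Z := ⊥) (R.inv_span' (by simp [hTe, a1, hTv, Submodule.mem_span_of_mem]))
      ((finrank_span_three_le ..).trans (by omega)) (by simp)
    exact hno w b2 b3 b4 (mem_perp_span.mp b1 v (by simp))

end RatStr

end Cfsg.Lib.Unitary
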